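import Cfsg.Agent.H41.Shult.TwoFuse
import Cfsg.Agent.H85.BrauerSuzuki

/-!
Shult's fixed point theorem, several radicals: once an element carrying a noncentral element of `Z`
into the maximal invariant overgroup lies in it, an element of `U` outside `Z` with central square
gives a contradiction (helper12, for S3041).
-/

set_option autoImplicit false
set_option linter.all false

open Subgroup

namespace H12.Shult

open H41.Shult
open H85.Shult (Top fixed disp Inv)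

variable {G : Type*} [Group G] [Finite G] {σ : MulAut G} {r m p : ℕ} {S U Z H₀ : Subgroup G}
  (B : Two σ r m p S U Z H₀) (hodd : Odd (Nat.card (act σ U)))
  (hI : ∀ x ∈ S, σ x = x → x * x ∈ center G → ∃ z ∈ Z, z⁻¹ * x ∈ center G)
  (hnofix : ∀ φ ∈ act σ U, φ ≠ 1 → ∀ v : U, φ v * v⁻¹ ∈ Z.subgroupOf U → (v : G) ∈ Z)
  (hclosed : ∀ g e : G, e ∈ Z → e ∉ center G → g * e * g⁻¹ ∈ H₀ → g ∈ H₀)

/-- A power of a finite group element, of two power order and equal to it modulo the centre. -/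
theorem exists_two_pow_rep {x : G} (hx2 : x * x ∈ center G) :
    ∃ y, (∃ o : ℕ, y = x ^ o) ∧ (∃ s : ℕ, y ^ 2 ^ s = 1) ∧ y⁻¹ * x ∈ center G := by
  obtain ⟨s, o, ho, hxo⟩ := Nat.exists_eq_two_pow_mul_odd (orderOf_pos x).ne'
  refine ⟨x ^ o, ⟨o, rfl⟩, ⟨s, by rw [← pow_mul, mul_comm, ← hxo, pow_orderOf_eq_one]⟩, ?_⟩
  obtain ⟨k, hk⟩ := ho
  rw [hk, pow_succ', mul_inv_rev, mul_assoc, inv_mul_cancel, mul_one, pow_mul, sq]
  exact inv_mem (pow_mem hx2 k)

theorem isPGroup_two_zpowers {y : G} {s : ℕ} (hy : y ^ 2 ^ s = 1) : IsPGroup 2 (zpowers y) := by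
  rintro ⟨_, n, rfl⟩
  refine ⟨s, Subtype.ext ?_⟩
  show (y ^ n) ^ 2 ^ s = 1
  rw [← zpow_natCast (y ^ n), ← zpow_mul, mul_comm, zpow_mul, zpow_natCast, hy, one_zpow]

include B hodd in
/-- Fixed elements of `S` centralise `U`. -/
theorem fixed_S_cent {a : G} (ha : a ∈ S) (hσa : σ a = a) {u : G} (hu : u ∈ U) :
    a * u = u * a := by
  have hN : a ∈ normalizer (U : Set G) := B.cfg.S_le_normU ha
  set φ := U.normalizerMonoidHom ⟨a, hN⟩ with hφ
  have hφA : φ ∈ act σ U := mem_act.mpr ⟨a, hσa, hN, fun u => rfl⟩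
  obtain ⟨s, hs⟩ := B.cfg.pS ⟨a, ha⟩
  have hsa : a ^ 2 ^ s = 1 := congrArg Subtype.val hs
  have h1 : φ ^ 2 ^ s = 1 := by
    rw [hφ, ← map_pow, show (⟨a, hN⟩ : normalizer (U : Set G)) ^ 2 ^ s = 1 from Subtype.ext hsa,
      map_one]
  have h2 : φ ^ Nat.card (act σ U) = 1 :=
    orderOf_dvd_iff_pow_eq_one.mp (Subgroup.orderOf_dvd_natCard _ hφA)
  have h3 : φ = 1 := by
    have := pow_gcd_eq_one.mpr ⟨h1, h2⟩
    rwa [(Nat.Coprime.pow_left s (Nat.coprime_two_left.mpr hodd)).gcd_eq_one, pow_one] at this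
  have h4 : a * u * a⁻¹ = u := congrArg (fun ψ : MulAut U => ((ψ ⟨u, hu⟩ : U) : G)) h3
  exact mul_inv_eq_iff_eq_mul.mp h4

include B hodd in
/-- `Z` is central in `S`. -/
theorem Z_comm {x z : G} (hx : x ∈ S) (hz : z ∈ Z) : x * z = z * x := by
  obtain ⟨u, hu, a, ha, hσa, rfl⟩ := H10.Shult.Rank.exists_US B.cfg hx
  rw [mul_assoc, fixed_S_cent B hodd ha hσa (B.hZU hz), ← mul_assoc, B.cfg.cenU u hu z hz,
    mul_assoc]

include B in
theorem exists_normalising_mul {K : Subgroup G} (hK : CoreSub σ p U H₀ K) {g : G} (hg : g ∈ H₀) :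
    ∃ n : G, σ n = n ∧ n ∈ normalizer (U : Set G) ∧ n ∈ H₀ ∧
      ∃ ρ ∈ K, ∃ u ∈ U, g = n * (ρ * u) := by
  obtain ⟨k₀, hk₀, hfix⟩ :=
    exists_fixed_coset B.cfg.hr B.cfg.hσ B.cfg.hcop (B.inv_KU hK) (B.mov_mem hK hg)
  obtain ⟨n, hσn, hnN, hnK, -⟩ := B.exists_normalising hK (mul_mem hg (B.KU_le hK hk₀)) hfix
  have hnM : n ∈ H₀ := by
    have := mul_mem (hK.le hnK) (mul_mem hg (B.KU_le hK hk₀))
    rwa [inv_mul_cancel_right] at this
  obtain ⟨w, hw, hgw⟩ : ∃ w ∈ K ⊔ U, g = n * w := by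
    refine ⟨n⁻¹ * g, ?_, by group⟩
    obtain ⟨c, hc, rfl⟩ : ∃ c ∈ K, n = c * (g * k₀) :=
      ⟨n * (g * k₀)⁻¹, hnK, by group⟩
    rw [show (c * (g * k₀))⁻¹ * g = k₀⁻¹ * (g⁻¹ * c⁻¹ * g⁻¹⁻¹) by group]
    exact mul_mem (inv_mem hk₀) (B.KU_norm hK (inv_mem hg) (mem_sup_left (inv_mem hc)))
  obtain ⟨ρ, hρ, u, hu, rfl⟩ := B.exists_mul hK hw
  exact ⟨n, hσn, hnN, hnM, ρ, hρ, u, hu, hgw⟩

include B in
/-- An element of `H₀` carrying `Z` into `U` carries it into `Z`. -/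
theorem conjM_Z {g z : G} (hg : g ∈ H₀) (hz : z ∈ Z) (h : g * z * g⁻¹ ∈ U) :
    g * z * g⁻¹ ∈ Z := by
  obtain ⟨K, hK⟩ := B.exists_core
  obtain ⟨n, hσn, hnN, hnM, ρ, hρ, u, hu, rfl⟩ := exists_normalising_mul B hK hg
  have hnz : n * z * n⁻¹ ∈ Z := B.cfg.mem_Z ((mem_normalizer_iff.mp hnN z).mp (B.hZU hz))
    (by simp only [map_mul, map_inv, hσn, B.fixZ hz])
  have huz : u * z = z * u := B.cfg.cenU u hu z hz
  have e : n * (ρ * u) * z * (n * (ρ * u))⁻¹ * (n * z * n⁻¹)⁻¹ =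
      n * (ρ * (z * ρ⁻¹ * z⁻¹)) * n⁻¹ := by
    rw [show n * (ρ * u) * z * (n * (ρ * u))⁻¹ * (n * z * n⁻¹)⁻¹ =
      n * ρ * (u * z) * u⁻¹ * ρ⁻¹ * z⁻¹ * n⁻¹ by group, huz]
    group
  have h1 := B.KS_one hK
    (show n * (ρ * u) * z * (n * (ρ * u))⁻¹ * (n * z * n⁻¹)⁻¹ ∈ K by
      rw [e]
      refine conj_mem (hK.norm hnM) (mul_mem hρ (conj_mem (hK.norm (B.hZM hz)) (inv_mem hρ))))
    (mul_mem (B.hUS h) (inv_mem (B.hZS hnz)))
  rw [mul_inv_eq_one] at h1
  rw [h1]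
  exact hnz

include B hclosed in
/-- An involution modulo the centre, split into a part in `U` and a fixed part centralising `U`, has
its centraliser modulo the centre in `H₀` if no nontrivial induced automorphism fixes its moved part
modulo `Z`. -/
theorem ncen_le_of_split {x u a : G} (hx : x ∈ S) (hx2 : x * x ∈ center G) (hu : u ∈ U)
    (hσa : σ a = a) (hau : ∀ w ∈ U, a * w = w * a) (hxd : x = u * a)
    (hfree : ∀ φ ∈ act σ U, φ ≠ 1 → ∀ v : U, (v : G) = u⁻¹ * σ u → φ v * v⁻¹ ∉ Z.subgroupOf U)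
    (hZL : Z ≤ ncen x) : ncen x ≤ H₀ := by
  haveI hN : (center G).Normal := inferInstance
  haveI : Fact (Nat.Prime 2) := ⟨Nat.prime_two⟩
  haveI := Fact.mk B.cfg.hp
  obtain ⟨K, hK⟩ := B.exists_core
  obtain ⟨e, he, hne⟩ := B.exists_noncentral
  set π := QuotientGroup.mk' (center G) with hπ
  have hπ1 : ∀ {y : G}, π y = 1 ↔ y ∈ center G := QuotientGroup.eq_one_iff _
  have hπM : ∀ {y : G}, π y ∈ H₀.map π → y ∈ H₀ := fun {y} ⟨w, hw, e'⟩ => by
    have h0 : w⁻¹ * y ∈ center G := QuotientGroup.eq.mp e'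
    have := mul_mem hw (B.center_le h0)
    rwa [mul_inv_cancel_left] at this
  set L := ncen x with hL
  obtain ⟨P, hP⟩ := ((B.cfg.pS.to_le (inf_le_left : S ⊓ L ≤ S)).of_equiv
    (subgroupOfEquivOfLe (inf_le_right : S ⊓ L ≤ L)).symm).exists_le_sylow
  set P' := (P : Subgroup L).map L.subtype with hP'
  have hP2 : IsPGroup 2 P' := P.2.map _
  have heP : e ∈ P' := ⟨⟨e, hZL he⟩, hP (show (⟨e, hZL he⟩ : L) ∈ (S ⊓ L).subgroupOf L from
    ⟨B.hZS he, hZL he⟩), rfl⟩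
  have hPM : P' ≤ H₀ := by
    by_contra hn
    have hlt : (P' ⊓ H₀).subgroupOf P' < ⊤ := by
      refine lt_top_iff_ne_top.mpr fun ht => hn ?_
      rw [subgroupOf_eq_top] at ht
      exact ht.trans inf_le_right
    haveI := hP2.isNilpotent
    obtain ⟨y, hy, hyT⟩ := SetLike.exists_of_lt (normalizerCondition_of_isNilpotent _ hlt)
    have h1 := (mem_normalizer_iff.mp hy ⟨e, heP⟩).mp ⟨heP, B.hZM he⟩
    exact hyT ⟨y.2, hclosed _ _ he hne h1.2⟩
  set Lb := L.map π with hLb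
  let f : L →* Lb := π.subgroupMap L
  have hf : Function.Surjective f := π.subgroupMap_surjective L
  let Pb : Sylow 2 Lb := P.mapSurjective hf
  have hiso : Cfsg.IsIsolatedInvolution (f ⟨e, hZL he⟩) := by
    refine H85.isolated_of_sylow Pb (orderOf_eq_prime ?_ ?_) ?_ fun q hq => ?_
    · refine Subtype.ext ?_
      show π e ^ 2 = 1
      rw [← map_pow, sq, B.cfg.sqZ e he, map_one]
    · exact fun a => hne (hπ1.mp (congrArg Subtype.val a))
    · exact ⟨⟨e, hZL he⟩, by obtain ⟨y, hy, hye⟩ := heP; exact (Subtype.ext hye : y = ⟨e, hZL he⟩) ▸ hy, rfl⟩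
    · obtain ⟨⟨g, hgL⟩, rfl⟩ := hf q
      obtain ⟨w, hw, hwq⟩ := hq
      have hwq' : π (w : G) = π (g * e * g⁻¹) := congrArg Subtype.val hwq
      have hwP : (w : G) ∈ P' := ⟨w, hw, rfl⟩
      have hgM : g ∈ H₀ := hclosed g e he hne (by
        have h0 := mul_mem (hPM hwP) (B.center_le (QuotientGroup.eq.mp hwq' :
          (w : G)⁻¹ * (g * e * g⁻¹) ∈ center G))
        rwa [mul_inv_cancel_left] at h0)
      obtain ⟨n, hσn, hnN, hnM, ρ, hρ, u', hu', hgk⟩ := exists_normalising_mul B hK hgM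
      set v := x⁻¹ * σ x with hv
      have hvu : v = u⁻¹ * σ u := by
        have h1 : a⁻¹ * (u⁻¹ * σ u) * a = u⁻¹ * σ u := by
          rw [mul_assoc, ← hau _ (mul_mem (inv_mem hu) (B.cfg.invU u hu)), inv_mul_cancel_left]
        rw [hv, hxd, map_mul, hσa, show (u * a)⁻¹ * (σ u * a) = a⁻¹ * (u⁻¹ * σ u) * a by group, h1]
      have hvU : v ∈ U := hvu ▸ mul_mem (inv_mem hu) (B.cfg.invU u hu)
      obtain ⟨c, hc, hgx⟩ : ∃ c ∈ center G, g * x * g⁻¹ = x * c := by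
        refine ⟨x⁻¹ * (g * x * g⁻¹ * x⁻¹) * x, ?_, by group⟩
        rw [mul_assoc, ← mem_center_iff.mp (mem_ncen.mp hgL) x, ← mul_assoc, inv_mul_cancel, one_mul]
        exact mem_ncen.mp hgL
      obtain ⟨z₁, hz₁, hz₁e⟩ : ∃ z₁ ∈ Z, u' * x = z₁ * x * u' := by
        refine ⟨_, B.cfg.comU u' hu' u hu, ?_⟩
        rw [hxd, ← mul_assoc u' u, mul_assoc _ (u * a) u', mul_assoc u a u', hau u' hu']
        group
      obtain ⟨ρ₁, hρ₁, hY⟩ : ∃ ρ₁ ∈ K, n⁻¹ * x * n * c = ρ₁ * (z₁ * x) := by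
        have hzx : z₁ * x ∈ H₀ := mul_mem (B.hZM hz₁) (B.hSM hx)
        refine ⟨ρ * (z₁ * x * ρ⁻¹ * (z₁ * x)⁻¹),
          mul_mem hρ (conj_mem (hK.norm hzx) (inv_mem hρ)), ?_⟩
        have e1 : n⁻¹ * x * n * c = (ρ * u') * x * (ρ * u')⁻¹ := by
          have h1 : g * x * g⁻¹ = n * ((ρ * u') * x * (ρ * u')⁻¹) * n⁻¹ := by rw [hgk]; group
          rw [hgx] at h1
          calc n⁻¹ * x * n * c = n⁻¹ * (x * c) * n := by
                rw [mul_assoc _ n c, mem_center_iff.mp hc n]; group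
            _ = (ρ * u') * x * (ρ * u')⁻¹ := by rw [h1]; group
        rw [e1, show ρ * u' * x * (ρ * u')⁻¹ = ρ * (u' * x) * u'⁻¹ * ρ⁻¹ by group, hz₁e]
        group
      have hc2 : c * c = 1 := by
        have h9 : g * (x * x) * g⁻¹ = x * x * (c * c) := by
          calc g * (x * x) * g⁻¹ = g * x * g⁻¹ * (g * x * g⁻¹) := by group
            _ = x * (c * x) * c := by rw [hgx]; group
            _ = x * x * (c * c) := by rw [← mem_center_iff.mp hc x]; group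
        rw [mem_center_iff.mp hx2 g, mul_inv_cancel_right] at h9
        exact (mul_eq_left.mp h9.symm)
      obtain ⟨ρ₂, hρ₂, c', hc', hcS, e2⟩ :
          ∃ ρ₂ ∈ K, ∃ c' ∈ center G, c' ∈ S ∧ n⁻¹ * v * n * c' = ρ₂ * v := by
        refine ⟨(z₁ * x)⁻¹ * (ρ₁⁻¹ * σ ρ₁) * (z₁ * x), ?_, c⁻¹ * σ c, ?_, ?_, ?_⟩
        · exact inv_conj_mem (hK.norm (mul_mem (B.hZM hz₁) (B.hSM hx)))
            (mul_mem (inv_mem hρ₁) (hK.inv _ hρ₁))
        · refine mul_mem (inv_mem hc) (mem_center_iff.mpr fun y => ?_)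
          obtain ⟨y, rfl⟩ := σ.surjective y
          rw [← map_mul, ← map_mul, mem_center_iff.mp hc y]
        · have h0 := B.central_mem_S hc hc2
          exact mul_mem (inv_mem h0) (B.invS c h0)
        · have h1 := congrArg (fun t => t⁻¹ * σ t) hY
          simp only [map_mul, map_inv, hσn, B.fixZ hz₁] at h1
          calc n⁻¹ * v * n * (c⁻¹ * σ c) = c⁻¹ * (n⁻¹ * v * n) * σ c := by
                rw [← mul_assoc, mem_center_iff.mp (inv_mem hc) (n⁻¹ * v * n)]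
            _ = (n⁻¹ * x * n * c)⁻¹ * (n⁻¹ * σ x * n * σ c) := by rw [hv]; group
            _ = (ρ₁ * (z₁ * x))⁻¹ * (σ ρ₁ * (z₁ * σ x)) := h1
            _ = _ := by rw [hv]; group
      have hnv : n⁻¹ * v * n ∈ U := inv_conj_mem hnN hvU
      have hc'2 : ∀ d : G, d ∈ center G → d * d = 1 → d ∈ S := fun d hd hd2 =>
        B.central_mem_S hd hd2
      obtain ⟨rfl, hc'S⟩ : ρ₂ = n⁻¹ * v * n * c' * v⁻¹ ∧ c' ∈ S := ⟨by rw [e2]; group, hcS⟩
      have h4 := B.KS_one hK hρ₂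
        (mul_mem (mul_mem (B.hUS hnv) hc'S) (B.hUS (inv_mem hvU)))
      rw [mul_inv_eq_one] at h4
      have hc'U : c' ∈ U := by
        rw [show c' = (n⁻¹ * v * n)⁻¹ * (n⁻¹ * v * n * c') by group, h4]
        exact mul_mem (inv_mem hnv) hvU
      have hc'Z : c' ∈ Z := B.mem_Z_of_comm_center hc'U fun w hw => by
        rw [← mem_center_iff.mp hc' w, mul_inv_cancel_right, mul_inv_cancel]; exact one_mem _
      have hW : U.normalizerMonoidHom ⟨n, hnN⟩ = 1 := by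
        by_contra hne1
        refine hfree _ (mem_act.mpr ⟨n, hσn, hnN, fun w => rfl⟩) hne1 ⟨v, hvU⟩ hvu ?_
        show n * v * n⁻¹ * v⁻¹ ∈ Z
        have h11 : n * v * n⁻¹ = v * c' := by
          calc n * v * n⁻¹ = n * (n⁻¹ * v * n * c') * n⁻¹ := by rw [h4]
            _ = v * (n * c') * n⁻¹ := by group
            _ = v * c' := by rw [mem_center_iff.mp hc' n]; group
        rw [h11, B.cfg.cenU v hvU c' hc'Z, mul_inv_cancel_right]
        exact hc'Z
      refine Subtype.ext ?_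
      show π g * π e * (π g)⁻¹ = π e
      have hne' : n * e * n⁻¹ = e := congrArg (fun ψ : MulAut U => ((ψ ⟨e, B.hZU he⟩ : U) : G)) hW
      have hR' : g * e * g⁻¹ * e⁻¹ ∈ K := by
        have e4 : g * e * g⁻¹ * e⁻¹ = n * (ρ * (e * ρ⁻¹ * e⁻¹)) * n⁻¹ := by
          conv_lhs => enter [2]; rw [← hne']
          rw [hgk, show n * (ρ * u') * e * (n * (ρ * u'))⁻¹ * (n * e * n⁻¹)⁻¹
            = n * ρ * (u' * e) * u'⁻¹ * ρ⁻¹ * e⁻¹ * n⁻¹ by group, B.cfg.cenU u' hu' e he]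
          group
        rw [e4]
        exact conj_mem (hK.norm hnM) (mul_mem hρ (conj_mem (hK.norm (B.hZM he)) (inv_mem hρ)))
      have h12 := eq_one_of_two_of_p B.cfg.hp B.cfg.hp2 (hK.pg.map π) (hP2.map π)
        (show π (g * e * g⁻¹ * e⁻¹) ∈ K.map π from ⟨_, hR', rfl⟩)
        (show π (g * e * g⁻¹ * e⁻¹) ∈ P'.map π from ⟨w * e⁻¹, mul_mem hwP (inv_mem heP), by
          rw [map_mul, map_mul π (g * e * g⁻¹), hwq']⟩)
      rw [map_mul, map_mul, map_mul, map_inv, map_inv, mul_inv_eq_one] at h12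
      exact h12
  haveI := H1.pPrimeCore_normal' 2 Lb
  set N := (Cfsg.pPrimeCore 2 Lb).map Lb.subtype with hNdef
  have hNn : ∀ a ∈ Lb, ∀ y ∈ N, a * y * a⁻¹ ∈ N := by
    rintro a ha _ ⟨y, hy, rfl⟩
    exact ⟨⟨a, ha⟩ * y * ⟨a, ha⟩⁻¹, Subgroup.Normal.conj_mem inferInstance y hy _, rfl⟩
  have hA2 : IsPGroup 2 (Z.map π) := (B.cfg.pS.to_le B.hZS).map π
  have hA4 : 2 ^ 2 ≤ Nat.card (Z.map π) := by
    obtain ⟨k, hk⟩ := hA2.exists_card_eq
    rcases Nat.lt_or_ge k 2 with hk2 | hk2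
    swap
    · rw [hk]; exact Nat.pow_le_pow_right two_pos hk2
    exfalso
    obtain ⟨a, ha, b, hb, han, hbn, habn⟩ := exists_four B.cfg B.h4
    have hle : Nat.card (Z.map π) ≤ 2 := by
      rw [hk]; exact (Nat.pow_le_pow_right two_pos (by omega : k ≤ 1)).trans (by norm_num)
    haveI : Nontrivial (Z.map π) :=
      ⟨⟨⟨π a, a, ha, rfl⟩, 1, fun q => han (hπ1.mp (congrArg Subtype.val q))⟩⟩
    have hcard : Nat.card (Z.map π) = 2 :=
      le_antisymm hle Finite.one_lt_card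
    obtain ⟨y, -, hy⟩ := (Nat.card_eq_two_iff' (1 : Z.map π)).mp hcard
    have h1 := hy ⟨π a, a, ha, rfl⟩ fun q => han (hπ1.mp (congrArg Subtype.val q))
    have h2 := hy ⟨π b, b, hb, rfl⟩ fun q => hbn (hπ1.mp (congrArg Subtype.val q))
    refine habn (hπ1.mp ?_)
    have h3 : π a = π b := congrArg Subtype.val (h1.trans h2.symm)
    rw [map_mul, h3, ← map_mul, B.cfg.sqZ b hb, map_one]
  have hNM : N ≤ H₀.map π := by
    refine H8.generation_elements (p := 2) (A := Z.map π) (K := N) ⟨⟨⟨fun a b => ?_⟩⟩, ?_⟩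
      hA4 ?_ ?_ ?_
    · obtain ⟨_, a, ha, rfl⟩ := a
      obtain ⟨_, b, hb, rfl⟩ := b
      refine Subtype.ext ?_
      show π a * π b = π b * π a
      rw [← map_mul, ← map_mul, B.cfg.cenU a (B.hZU ha) b hb]
    · rintro _ ⟨a, ha, rfl⟩
      rw [pow_two, ← map_mul, B.cfg.sqZ a ha, map_one]
    · rintro _ ⟨a, ha, rfl⟩
      have haL : π a ∈ Lb := ⟨a, hZL ha, rfl⟩
      refine mem_normalizer_iff.mpr fun y => ⟨fun hy => hNn _ haL y hy, fun hy => ?_⟩
      have := hNn _ (inv_mem haL) _ hy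
      simpa [mul_assoc] using this
    · rw [hNdef, card_map_of_injective (subtype_injective _)]
      intro hd
      exact absurd (Nat.eq_one_of_dvd_coprimes (H1.card_pPrimeCore_coprime 2 Lb) hd dvd_rfl)
        (by norm_num)
    · rintro _ ⟨a, ha, rfl⟩ ha1 y hy
      obtain ⟨y, rfl⟩ := QuotientGroup.mk'_surjective (center G) y
      refine ⟨y, B.ncen_le ha (fun q => ha1 (hπ1.mpr q)) (mem_ncen.mpr (hπ1.mp ?_)), rfl⟩
      rw [map_mul, map_mul, map_mul, map_inv, map_inv, mem_centralizer_singleton_iff.mp hy.2,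
        mul_inv_cancel_right, mul_inv_cancel]
  intro g hg
  have hmem : π (e * g * e⁻¹ * g⁻¹) ∈ N :=
    ⟨_, H85.zStar hiso (f ⟨g, hg⟩), by simp only [map_mul, map_inv]; rfl⟩
  refine hclosed g e he hne ?_
  have h1 := mul_mem (inv_mem (hπM (hNM hmem))) (B.hZM he)
  rwa [show (e * g * e⁻¹ * g⁻¹)⁻¹ * e = g * e * g⁻¹ by group] at h1

include B hodd hI hnofix hclosed in
/-- An involution modulo the centre outside `Z` has its centraliser modulo the centre in `H₀`. -/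
theorem cent_outside_le {x : G} (hx : x ∈ S) (hx2 : x * x ∈ center G)
    (hxZ : ∀ z ∈ Z, z⁻¹ * x ∉ center G) : ncen x ≤ H₀ := by
  obtain ⟨u, hu, a, ha, hσa, hxd⟩ := H10.Shult.Rank.exists_US B.cfg hx
  refine ncen_le_of_split B hclosed hx hx2 hu hσa (fun w hw => fixed_S_cent B hodd ha hσa hw) hxd
    (fun φ hφ hne v hv hfix => ?_) fun z hz => mem_ncen.mpr (by
      rw [← Z_comm B hodd hx hz, mul_inv_cancel_right, mul_inv_cancel]; exact one_mem _)
  have hvZ := hnofix φ hφ hne v hfix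
  rw [hv] at hvZ
  by_cases huZ : u ∈ Z
  · obtain ⟨z, hz, hzx⟩ := hI x hx (by rw [hxd, map_mul, hσa, B.fixZ huZ]) hx2
    exact hxZ z hz hzx
  · exact (B.mov_notMem hu huZ).2 hvZ

include B hodd hI hnofix hclosed in
/-- No element of `U` outside `Z` has central square if some fixed element lies outside `H₀`. -/
theorem false_of_closure {y : G} (hy : y ∈ U) (hyZ : y ∉ Z) (hy2 : y * y ∈ center G)
    {h : G} (hh : σ h = h) (hhM : h ∉ H₀) : False := by
  haveI hN : (center G).Normal := inferInstance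
  have hcz : ∀ w ∈ U, w ∈ center G → w ∈ Z := fun w hw hwc => B.mem_Z_of_comm_center hw fun v hv => by
    rw [← mem_center_iff.mp hwc v, mul_inv_cancel_right, mul_inv_cancel]; exact one_mem _
  have hyZc : ∀ z ∈ Z, z⁻¹ * y ∉ center G := fun z hz hc => hyZ (by
    have := mul_mem hz (hcz _ (mul_mem (inv_mem (B.hZU hz)) hy) hc)
    rwa [mul_inv_cancel_left] at this)
  have hyc : y ∉ center G := fun hc => hyZ (hcz y hy hc)
  obtain ⟨e, he, hne⟩ := B.exists_noncentral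
  have hL := cent_outside_le B hodd hI hnofix hclosed (B.hUS hy) hy2 hyZc
  obtain ⟨a, ha⟩ : ∃ w, w = h * e * h⁻¹ := ⟨_, rfl⟩
  set π := QuotientGroup.mk' (center G) with hπ
  have hπ1 : ∀ {w : G}, π w = 1 ↔ w ∈ center G := QuotientGroup.eq_one_iff _
  obtain ⟨A, hA⟩ : ∃ w, w = π a := ⟨_, rfl⟩
  obtain ⟨X, hX⟩ : ∃ w, w = π y := ⟨_, rfl⟩
  have ha2 : A * A = 1 := by
    rw [hA, ← map_mul, ha, show h * e * h⁻¹ * (h * e * h⁻¹) = h * (e * e) * h⁻¹ by group,
      B.cfg.sqZ e he, mul_one, mul_inv_cancel, map_one]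
  have hx2 : X * X = 1 := by rw [hX, ← map_mul]; exact hπ1.mpr hy2
  have hai : A⁻¹ = A := inv_eq_of_mul_eq_one_right ha2
  obtain ⟨T, hT⟩ : ∃ w, w = A * X := ⟨_, rfl⟩
  have hxt : X = A * T := by rw [hT, ← mul_assoc, ha2, one_mul]
  have hinv : A * T * A⁻¹ = T⁻¹ := by
    rw [hT, mul_inv_rev, inv_eq_of_mul_eq_one_right hx2, hai,
      show A * (A * X) * A = A * A * X * A by group, ha2, one_mul]
  have hpow : ∀ k : ℕ, A * T ^ k * A⁻¹ = (T ^ k)⁻¹ := fun k => by rw [← conj_pow, hinv, inv_pow]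
  rcases Nat.even_or_odd (orderOf T) with ⟨l, hl⟩ | ⟨l, hl⟩
  · obtain ⟨W, hW⟩ : ∃ w, w = T ^ l := ⟨_, rfl⟩
    have hw2 : W * W = 1 := by rw [hW, ← pow_add, ← hl, pow_orderOf_eq_one]
    have hw1 : W ≠ 1 := by
      have hpos : 0 < orderOf T := orderOf_pos T
      rw [hW]
      exact pow_ne_one_of_lt_orderOf (by omega) (by omega)
    have hwa : W * A = A * W := by
      have := hpow l
      rw [← hW, inv_eq_of_mul_eq_one_right hw2, mul_inv_eq_iff_eq_mul] at this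
      exact this.symm
    have hwx : W * X = X * W := by
      have h1 : W * T = T * W := by rw [hW, ← pow_succ, ← pow_succ']
      rw [hxt, ← mul_assoc, hwa, mul_assoc, h1, mul_assoc]
    obtain ⟨w₀, hw₀⟩ := QuotientGroup.mk'_surjective (center G) W
    have hw₀' : π w₀ = W := hw₀
    have hw₀2 : w₀ * w₀ ∈ center G := hπ1.mp (by rw [map_mul, hw₀', hw2])
    obtain ⟨w, -, ⟨s, hs⟩, hwc⟩ := exists_two_pow_rep hw₀2
    have hwW : π w = W := by rw [← hw₀']; exact QuotientGroup.eq.mpr hwc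
    have hwM : w ∈ H₀ := hL (mem_ncen.mpr (hπ1.mp (by
      rw [map_mul, map_mul, map_mul, map_inv, map_inv, hwW, ← hX, hwx, mul_inv_cancel_right,
        mul_inv_cancel])))
    obtain ⟨n, hn, hnS⟩ := B.sylM.2.2 (zpowers w) (zpowers_le.mpr hwM) (isPGroup_two_zpowers hs)
    have hw'S : n * w * n⁻¹ ∈ S := hnS w (mem_zpowers w)
    have hw'2 : n * w * n⁻¹ * (n * w * n⁻¹) ∈ center G := by
      rw [show n * w * n⁻¹ * (n * w * n⁻¹) = n * (w * w) * n⁻¹ by group]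
      exact hN.conj_mem _ (hπ1.mp (by rw [map_mul, hwW, hw2])) n
    have hle : ncen (n * w * n⁻¹) ≤ H₀ := by
      by_cases hz : ∃ z ∈ Z, z⁻¹ * (n * w * n⁻¹) ∈ center G
      · obtain ⟨z, hz, hzc⟩ := hz
        have he' : π z = π (n * w * n⁻¹) := QuotientGroup.eq.mpr hzc
        have hzn : z ∉ center G := fun q => hw1 (by
          have h1 : π (n * w * n⁻¹) = 1 := by rw [← he']; exact hπ1.mpr q
          rw [map_mul, map_mul, map_inv, hwW, conj_eq_one_iff] at h1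
          exact h1)
        have hnz : ncen (n * w * n⁻¹) = ncen z := by
          show (centralizer ({π (n * w * n⁻¹)} : Set (G ⧸ center G))).comap π = _
          rw [← he']; rfl
        rw [hnz]; exact B.ncen_le hz hzn
      · push Not at hz
        exact cent_outside_le B hodd hI hnofix hclosed hw'S hw'2 hz
    have h1 : n * a * n⁻¹ ∈ H₀ := hle (mem_ncen.mpr (by
      rw [show n * a * n⁻¹ * (n * w * n⁻¹) * (n * a * n⁻¹)⁻¹ * (n * w * n⁻¹)⁻¹ =
        n * (a * w * a⁻¹ * w⁻¹) * n⁻¹ by group]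
      refine hN.conj_mem _ (hπ1.mp ?_) n
      rw [map_mul, map_mul, map_mul, map_inv, map_inv, hwW, ← hA, ← hwa, mul_inv_cancel_right,
        mul_inv_cancel]))
    have haM : a ∈ H₀ := by simpa [mul_assoc] using mul_mem (mul_mem (inv_mem hn) h1) hn
    exact hhM (B.mem_of_conjZ hh he hne (ha ▸ haM))
  · obtain ⟨C, hC⟩ : ∃ w, w = T ^ (l + 1) := ⟨_, rfl⟩
    have h1 : A * C⁻¹ * A = C := by
      have := congrArg (fun q => q⁻¹) (hpow (l + 1))
      simp only [mul_inv_rev, inv_inv, ← hC, hai] at this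
      rw [← mul_assoc] at this
      exact this
    have e1 : C⁻¹ * A * C = X := by
      rw [show C⁻¹ * A * C = A * (A⁻¹ * C⁻¹ * A) * C by group, hai, h1, hxt, mul_assoc, hC,
        ← pow_add, show l + 1 + (l + 1) = orderOf T + 1 by omega, pow_succ, pow_orderOf_eq_one,
        one_mul]
    obtain ⟨c, hc⟩ := QuotientGroup.mk'_surjective (center G) C
    have hc' : π c = C := hc
    obtain ⟨g, hg⟩ : ∃ g, g = c⁻¹ * h := ⟨_, rfl⟩
    have hgy : π (g * e * g⁻¹) = π y := by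
      rw [show g * e * g⁻¹ = c⁻¹ * a * c by rw [hg, ha]; group, map_mul, map_mul, map_inv, hc',
        ← hA, e1, hX]
    obtain ⟨d, hd, hdy⟩ : ∃ d ∈ center G, g * e * g⁻¹ = y * d :=
      ⟨y⁻¹ * (g * e * g⁻¹), QuotientGroup.eq.mp hgy.symm, by group⟩
    have hgM : g ∈ H₀ := hclosed g e he hne (by
      rw [hdy]; exact mul_mem (B.hUM hy) (B.center_le hd))
    obtain ⟨K, hK⟩ := B.exists_core
    have hd2 : d ^ 2 ^ 2 = 1 := by
      have h2 : y * y * (d * d) = 1 := by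
        rw [show y * y * (d * d) = y * (y * d) * d by group, mem_center_iff.mp hd y,
          show y * (d * y) * d = y * d * (y * d) by group, ← hdy,
          show g * e * g⁻¹ * (g * e * g⁻¹) = g * (e * e) * g⁻¹ by group, B.cfg.sqZ e he]
        group
      have h3 : y * y ∈ Z := B.cfg.sqU y hy
      rw [show d ^ 2 ^ 2 = d * d * (d * d) by simp [pow_succ, pow_mul, mul_assoc], ← inv_eq_of_mul_eq_one_right h2,
        B.inv_eq h3, B.cfg.sqZ _ h3]
    have hdS : d ∈ S := by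
      obtain ⟨q, -, hq⟩ := B.sylG.2.2 (zpowers d) le_top (isPGroup_two_zpowers hd2)
      have := hq d (mem_zpowers d)
      rwa [mem_center_iff.mp hd q, mul_inv_cancel_right] at this
    have hdU : d ∈ U := B.KS hK (by
      rw [show d = y⁻¹ * (g * e * g⁻¹) by rw [hdy]; group]
      exact mul_mem (mem_sup_right (inv_mem hy)) (B.KU_norm hK hgM (mem_sup_right (B.hZU he)))) hdS
    have hgU : g * e * g⁻¹ ∈ U := hdy ▸ mul_mem hy hdU
    have hm := mul_mem (conjM_Z B hgM he hgU) (inv_mem (hcz d hdU hd))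
    rw [hdy, mul_inv_cancel_right] at hm
    exact hyZ hm

end H12.Shult
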