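import Cfsg.Agent.H41.Shult.TwoAxis
import Cfsg.Agent.H12.Shult.TwoFinal

/-!
Shult's fixed point theorem, several radicals, the axis case: a closed maximal invariant overgroup
contains all fixed elements (two dihedral steps; helper12, for S3041).
-/

set_option autoImplicit false
set_option linter.all false

open Subgroup

namespace H12.Shult

open H41.Shult
open H85.Shult (Top fixed disp Inv)

section Dihedral

variable {Q : Type*} [Group Q]

/-- Two involutions invert their product. -/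
theorem invol_conj_pow {A X : Q} (hA : A * A = 1) (hX : X * X = 1) (k : ℕ) :
    A * (A * X) ^ k * A⁻¹ = ((A * X) ^ k)⁻¹ := by
  have hAi : A⁻¹ = A := inv_eq_of_mul_eq_one_right hA
  rw [← conj_pow, ← inv_pow]
  congr 1
  rw [mul_inv_rev, inv_eq_of_mul_eq_one_right hX, hAi,
    show A * (A * X) * A = A * A * X * A by group, hA, one_mul]

theorem invol_conj_self {A X : Q} (hA : A * A = 1) (hX : X * X = 1) (k : ℕ) :
    ((A * X) ^ k)⁻¹ * A * (A * X) ^ k = A * (A * X) ^ (2 * k) := by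
  obtain ⟨C, hC⟩ : ∃ C, C = (A * X) ^ k := ⟨_, rfl⟩
  have hAi : A⁻¹ = A := inv_eq_of_mul_eq_one_right hA
  have h1 : A * C * A⁻¹ = C⁻¹ := hC ▸ invol_conj_pow hA hX k
  rw [two_mul, pow_add, ← hC, ← h1, hAi,
    show A * C * A * A * C = A * C * (A * A) * C by group, hA, mul_one, mul_assoc]

/-- Involutions with product of odd order are conjugate by a power of the product. -/
theorem invol_conj_of_odd {A X : Q} (hA : A * A = 1) (hX : X * X = 1)
    (ho : Odd (orderOf (A * X))) : ∃ k : ℕ, ((A * X) ^ k)⁻¹ * A * (A * X) ^ k = X := by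
  obtain ⟨l, hl⟩ := ho
  refine ⟨l + 1, ?_⟩
  rw [invol_conj_self hA hX, show 2 * (l + 1) = orderOf (A * X) + 1 by omega, pow_succ,
    pow_orderOf_eq_one, one_mul, ← mul_assoc, hA, one_mul]

end Dihedral

variable {G : Type*} [Group G] [Finite G] {σ : MulAut G} {r m p : ℕ} {S U Z H₀ : Subgroup G}

theorem ncen_congr {x y : G} (h : y⁻¹ * x ∈ center G) : ncen x = ncen y := by
  show (centralizer ({QuotientGroup.mk' (center G) x} : Set (G ⧸ center G))).comap _ = _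
  rw [show QuotientGroup.mk' (center G) x = QuotientGroup.mk' (center G) y from
    (QuotientGroup.eq.mpr h).symm]
  rfl

variable {B : Two σ r m p S U Z H₀}

theorem ncen_conj_le {c x : G} (hc : c ∈ H₀) (h : ncen (c * x * c⁻¹) ≤ H₀) : ncen x ≤ H₀ := by
  intro g hg
  have := mul_mem (mul_mem (inv_mem hc) (h (conj_mem_ncen (c := c) hg))) hc
  convert this using 1
  group

include B

/-- A subgroup of `U` containing `Z` and preserved by fixed normalisers is normal in `H₀` modulo the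
core. -/
theorem sup_core_conj {K : Subgroup G} (hK : CoreSub σ p U H₀ K) {Y : Subgroup G} (hZY : Z ≤ Y)
    (hYU : Y ≤ U)
    (hY : ∀ n : G, σ n = n → n ∈ normalizer (U : Set G) → ∀ y ∈ Y, n * y * n⁻¹ ∈ Y)
    {g x : G} (hg : g ∈ H₀) (hx : x ∈ Y ⊔ K) : g * x * g⁻¹ ∈ Y ⊔ K := by
  obtain ⟨n, hσn, hnN, hnM, ρ, hρ, u, hu, rfl⟩ := exists_normalising_mul B hK hg
  obtain ⟨y, hy, k, hk, rfl⟩ :=
    exists_mul_of_mem_sup' (fun a ha => hK.norm (B.hUM (hYU ha))) hx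
  have hy' : u * y * u⁻¹ ∈ Y := by
    rw [show u * y * u⁻¹ = u * y * u⁻¹ * y⁻¹ * y by group]
    exact mul_mem (hZY (B.cfg.comU u hu y (hYU hy))) hy
  rw [show n * (ρ * u) * (y * k) * (n * (ρ * u))⁻¹ =
    n * (ρ * (u * y * u⁻¹) * ρ⁻¹) * n⁻¹ * ((n * (ρ * u)) * k * (n * (ρ * u))⁻¹) by group]
  refine mul_mem ?_ (mem_sup_right (conj_mem (hK.norm
    (mul_mem hnM (mul_mem (hK.le hρ) (B.hUM hu)))) hk))
  obtain ⟨w, hw⟩ : ∃ w, w = u * y * u⁻¹ := ⟨_, rfl⟩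
  rw [← hw] at hy' ⊢
  rw [show n * (ρ * w * ρ⁻¹) * n⁻¹ = n * (ρ * (w * ρ⁻¹ * w⁻¹)) * n⁻¹ * (n * w * n⁻¹) by group]
  exact mul_mem (mem_sup_right (conj_mem (hK.norm hnM) (mul_mem hρ
    (conj_mem (hK.norm (B.hUM (hYU hy'))) (inv_mem hρ))))) (mem_sup_left (hY n hσn hnN w hy'))

/-- An element of `S` in `Y K` modulo the centre lies in `Y` modulo the centre. -/
theorem mem_of_sup_core {K : Subgroup G} (hK : CoreSub σ p U H₀ K) {Y : Subgroup G} (hYU : Y ≤ U)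
    {s : G} (hs : s ∈ S)
    (h : QuotientGroup.mk' (center G) s ∈ (Y ⊔ K).map (QuotientGroup.mk' (center G))) :
    ∃ y ∈ Y, y⁻¹ * s ∈ center G := by
  haveI := Fact.mk B.cfg.hp
  set π := QuotientGroup.mk' (center G) with hπ
  obtain ⟨w, hw, hws⟩ := h
  obtain ⟨y, hy, k, hk, rfl⟩ :=
    exists_mul_of_mem_sup' (fun a ha => hK.norm (B.hUM (hYU ha))) hw
  have e : π k = π (y⁻¹ * s) := by
    rw [map_mul, map_inv, ← hws, map_mul, inv_mul_cancel_left]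
  have h1 := eq_one_of_two_of_p B.cfg.hp B.cfg.hp2 (hK.pg.map π) (B.cfg.pS.map π)
    (show π k ∈ K.map π from ⟨k, hk, rfl⟩)
    (show π k ∈ S.map π from ⟨_, mul_mem (inv_mem (B.hUS (hYU hy))) hs, e.symm⟩)
  rw [e] at h1
  exact ⟨y, hy, (QuotientGroup.eq_one_iff _).mp h1⟩

variable {X : Subgroup G} (A : Axis B X)
  (hclosed : ∀ g e : G, e ∈ Z → e ∉ center G → g * e * g⁻¹ ∈ H₀ → g ∈ H₀)

include A

theorem conj_X {n : G} (hσn : σ n = n) (hn : n ∈ normalizer (U : Set G)) {y : G} (hy : y ∈ X) :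
    n * y * n⁻¹ ∈ X := by
  have h : n * y * n⁻¹ * y⁻¹ ∈ Z := A.actX (U.normalizerMonoidHom ⟨n, hn⟩)
    (mem_act.mpr ⟨n, hσn, hn, fun u => rfl⟩) ⟨y, A.leU hy⟩ hy
  have := mul_mem (A.le h) hy
  rwa [inv_mul_cancel_right] at this

omit A in
theorem conj_Z {n : G} (hσn : σ n = n) (hn : n ∈ normalizer (U : Set G)) {z : G} (hz : z ∈ Z) :
    n * z * n⁻¹ ∈ Z :=
  B.cfg.mem_Z ((mem_normalizer_iff.mp hn z).mp (B.hZU hz))
    (by simp only [map_mul, map_inv, hσn, B.fixZ hz])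

omit A in
theorem mem_Z_of_center {w : G} (hw : w ∈ U) (hwc : w ∈ center G) : w ∈ Z :=
  B.mem_Z_of_comm_center hw fun v hv => by
    rw [← mem_center_iff.mp hwc v, mul_inv_cancel_right, mul_inv_cancel]; exact one_mem _

include hclosed

/-- An involution modulo the centre in `S` outside the axis has its centraliser modulo the centre in
`H₀`. -/
theorem axis_cent_le {x : G} (hx : x ∈ S) (hx2 : x * x ∈ center G)
    (hxX : ∀ q ∈ X, q⁻¹ * x ∉ center G) : ncen x ≤ H₀ := by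
  obtain ⟨u, hu, k, hk, hσk, hcent, hxd, hX⟩ := A.invol hx hx2
  refine ncen_le_of_split B hclosed hx hx2 hu hσk hcent hxd (fun φ hφ hne v hv hfix => ?_)
    fun z hz => ncen_symm (mem_ncen.mpr (A.cenS' hx hz))
  have hvX := A.free φ hφ hne v hfix
  rw [hv] at hvX
  have huX : u ∈ X := by
    obtain ⟨q, hq, hfq⟩ :=
      exists_fixed_coset B.cfg.hr B.cfg.hσ B.cfg.hcop (H := X) A.inv hvX
    have := mul_mem (A.le (B.cfg.mem_Z (mul_mem hu (A.leU hq)) hfq)) (inv_mem hq)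
    rwa [mul_inv_cancel_right] at this
  obtain ⟨q, hq, hqx⟩ := hX huX
  exact hxX q hq hqx

/-- The two kinds of involutions modulo the centre in `H₀`. -/
theorem axis_cases {w : G} (hwM : w ∈ H₀) {s : ℕ} (hs : w ^ 2 ^ s = 1) (hw2 : w * w ∈ center G)
    (hwc : w ∉ center G) :
    ncen w ≤ H₀ ∨ ∃ n ∈ H₀, ∃ q ∈ X, q ∉ Z ∧ q⁻¹ * (n * w * n⁻¹) ∈ center G := by
  obtain ⟨n, hn, hnS⟩ := B.sylM.2.2 (zpowers w) (zpowers_le.mpr hwM) (isPGroup_two_zpowers hs)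
  have hw'S : n * w * n⁻¹ ∈ S := hnS w (mem_zpowers w)
  have hw'2 : n * w * n⁻¹ * (n * w * n⁻¹) ∈ center G := by
    rw [show n * w * n⁻¹ * (n * w * n⁻¹) = n * (w * w) * n⁻¹ by group]
    exact (inferInstance : (center G).Normal).conj_mem _ hw2 n
  by_cases h : ∃ q ∈ X, q⁻¹ * (n * w * n⁻¹) ∈ center G
  · obtain ⟨q, hq, hqc⟩ := h
    by_cases hqZ : q ∈ Z
    · left
      refine ncen_conj_le hn ?_
      rw [ncen_congr hqc]
      refine B.ncen_le hqZ fun hqC => hwc ?_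
      have h1 := (inferInstance : (center G).Normal).conj_mem _ (mul_mem hqC hqc) n⁻¹
      simpa [mul_assoc] using h1
    · exact Or.inr ⟨n, hn, q, hq, hqZ, hqc⟩
  · push Not at h
    exact Or.inl (ncen_conj_le hn (axis_cent_le A hclosed hw'S hw'2 h))

/-- The dihedral group of a fixed conjugate of `e` outside `H₀` and a singular element outside the
axis. -/
theorem axis_pair {K : Subgroup G} (hK : CoreSub σ p U H₀ K) {e g x : G} (he : e ∈ Z)
    (hne : e ∉ center G) (hg : σ g = g) (hgM : g ∉ H₀) (hxU : x ∈ U) (hxX : x ∉ X)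
    (hx2 : x * x ∈ center G) :
    ∃ (l : ℕ) (w : G), orderOf (QuotientGroup.mk' (center G) (g * e * g⁻¹) *
        QuotientGroup.mk' (center G) x) = l + l ∧
      QuotientGroup.mk' (center G) w = (QuotientGroup.mk' (center G) (g * e * g⁻¹) *
        QuotientGroup.mk' (center G) x) ^ l ∧
      w ∈ H₀ ∧ w * w ∈ center G ∧ g * e * g⁻¹ ∈ ncen w ∧ ¬ ncen w ≤ H₀ ∧
      QuotientGroup.mk' (center G) w ∈ (X ⊔ K).map (QuotientGroup.mk' (center G)) ∧
      ∃ n ∈ H₀, ∃ q ∈ X, q ∉ Z ∧ q⁻¹ * (n * w * n⁻¹) ∈ center G := by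
  set π := QuotientGroup.mk' (center G) with hπ
  have hπ1 : ∀ {w : G}, π w = 1 ↔ w ∈ center G := QuotientGroup.eq_one_iff _
  obtain ⟨a, ha⟩ : ∃ a, a = g * e * g⁻¹ := ⟨_, rfl⟩
  rw [← ha]
  have ha2 : π a * π a = 1 := by
    rw [← map_mul, ha, show g * e * g⁻¹ * (g * e * g⁻¹) = g * (e * e) * g⁻¹ by group,
      B.cfg.sqZ e he, mul_one, mul_inv_cancel, map_one]
  have hx2' : π x * π x = 1 := by rw [← map_mul]; exact hπ1.mpr hx2
  have hxXc : ∀ q ∈ X, q⁻¹ * x ∉ center G := fun q hq hc => hxX (by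
    have := mul_mem hq (A.le (mem_Z_of_center (B := B) (mul_mem (inv_mem (A.leU hq)) hxU) hc))
    rwa [mul_inv_cancel_left] at this)
  have hL := axis_cent_le A hclosed (B.hUS hxU) hx2 hxXc
  obtain ⟨T, hT⟩ : ∃ T, T = π a * π x := ⟨_, rfl⟩
  rw [← hT]
  rcases Nat.even_or_odd (orderOf T) with ⟨l, hl⟩ | ho
  swap
  · exfalso
    obtain ⟨k, hk⟩ := invol_conj_of_odd ha2 hx2' (hT ▸ ho)
    rw [← hT] at hk
    obtain ⟨c, hc⟩ := QuotientGroup.mk'_surjective (center G) (T ^ k)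
    have hc' : π c = T ^ k := hc
    obtain ⟨g', hg'⟩ : ∃ g', g' = c⁻¹ * g := ⟨_, rfl⟩
    have hgy : π (g' * e * g'⁻¹) = π x := by
      rw [show g' * e * g'⁻¹ = c⁻¹ * a * c by rw [hg', ha]; group, map_mul, map_mul, map_inv, hc',
        hk]
    obtain ⟨d, hd, hdy⟩ : ∃ d ∈ center G, g' * e * g'⁻¹ = x * d :=
      ⟨x⁻¹ * (g' * e * g'⁻¹), QuotientGroup.eq.mp hgy.symm, by group⟩
    have hgM' : g' ∈ H₀ := hclosed g' e he hne (by
      rw [hdy]; exact mul_mem (B.hUM hxU) (B.center_le hd))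
    have hmem : π x ∈ (Z ⊔ K).map π := ⟨g' * e * g'⁻¹, sup_core_conj (B := B) hK le_rfl B.hZU
      (fun n hn hnN y hy => conj_Z (B := B) hn hnN hy) hgM' (mem_sup_left he), hgy⟩
    obtain ⟨z, hz, hzx⟩ := mem_of_sup_core (B := B) hK B.hZU (B.hUS hxU) hmem
    exact hxXc z (A.le hz) hzx
  obtain ⟨W, hW⟩ : ∃ w, w = T ^ l := ⟨_, rfl⟩
  have hw2 : W * W = 1 := by rw [hW, ← pow_add, ← hl, pow_orderOf_eq_one]
  have hw1 : W ≠ 1 := by
    have hpos : 0 < orderOf T := orderOf_pos T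
    rw [hW]
    exact pow_ne_one_of_lt_orderOf (by omega) (by omega)
  have hwa : W * π a = π a * W := by
    have h1 := invol_conj_pow ha2 hx2' l
    rw [← hT, ← hW, inv_eq_of_mul_eq_one_right hw2, mul_inv_eq_iff_eq_mul] at h1
    exact h1.symm
  have hwx : W * π x = π x * W := by
    have h1 : W * T = T * W := by rw [hW, ← pow_succ, ← pow_succ']
    have hxt : π x = π a * T := by rw [hT, ← mul_assoc, ha2, one_mul]
    rw [hxt, ← mul_assoc, hwa, mul_assoc, h1, mul_assoc]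
  obtain ⟨w₀, hw₀⟩ := QuotientGroup.mk'_surjective (center G) W
  have hw₀' : π w₀ = W := hw₀
  have hw₀2 : w₀ * w₀ ∈ center G := hπ1.mp (by rw [map_mul, hw₀', hw2])
  obtain ⟨w, -, ⟨s, hs⟩, hwc⟩ := exists_two_pow_rep hw₀2
  have hwW : π w = W := by rw [← hw₀']; exact QuotientGroup.eq.mpr hwc
  have hwM : w ∈ H₀ := hL (mem_ncen.mpr (hπ1.mp (by
    rw [map_mul, map_mul, map_mul, map_inv, map_inv, hwW, hwx, mul_inv_cancel_right,
      mul_inv_cancel])))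
  have haw : a ∈ ncen w := mem_ncen.mpr (hπ1.mp (by
    rw [map_mul, map_mul, map_mul, map_inv, map_inv, hwW, ← hwa, mul_inv_cancel_right,
      mul_inv_cancel]))
  have hbad : ¬ ncen w ≤ H₀ := fun h =>
    hgM (B.mem_of_conjZ hg he hne (ha ▸ h haw))
  have hw2' : w * w ∈ center G := hπ1.mp (by rw [map_mul, hwW, hw2])
  obtain ⟨n, hn, q, hq, hqZ, hqc⟩ := (axis_cases A hclosed hwM hs hw2'
    fun hc => hw1 (by rw [← hwW]; exact hπ1.mpr hc)).resolve_left hbad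
  refine ⟨l, w, hl, hwW.trans hW, hwM, hw2', haw, hbad, ⟨n⁻¹ * q * n⁻¹⁻¹, sup_core_conj (B := B) hK
    A.le A.leU (fun n hn hnN y hy => conj_X A hn hnN hy) (inv_mem hn) (mem_sup_left hq), ?_⟩,
    n, hn, q, hq, hqZ, hqc⟩
  have h1 : π q = π (n * w * n⁻¹) := QuotientGroup.eq.mpr hqc
  rw [map_mul, map_mul, h1, map_mul, map_mul]
  simp [mul_assoc]

/-- A fixed element outside `H₀` carrying `e` to a conjugate that commutes with the moved parts of
the axis. -/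
theorem exists_axis_comm {h : G} (hh : σ h = h) (hhM : h ∉ H₀) :
    ∃ e g : G, e ∈ Z ∧ e ∉ center G ∧ σ g = g ∧ g ∉ H₀ ∧
      (∀ q ∈ movX σ X, g * e * g⁻¹ ∈ ncen q) ∧ ∃ x ∈ U, x ∉ X ∧ x * x ∈ center G := by
  haveI hN : (center G).Normal := inferInstance
  obtain ⟨K, hK⟩ := B.exists_core
  obtain ⟨e, he, hne⟩ := B.exists_noncentral
  obtain ⟨x, hxU, hxX, hx2⟩ : ∃ x ∈ U, x ∉ X ∧ x * x ∈ center G := by
    obtain ⟨u, hu, huX⟩ := A.proper
    obtain ⟨q, hq, hz⟩ := A.surj u hu huX (u * u) (B.cfg.sqU u hu)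
    refine ⟨q * u, mul_mem (A.leU hq) hu, fun hqu => huX (by
      have := mul_mem (inv_mem hq) hqu
      rwa [inv_mul_cancel_left] at this), ?_⟩
    have hqc : ∀ w, q * q * w = w * (q * q) := fun w => (mem_center_iff.mp (A.sq q hq) w).symm
    have e1 : q * u * (q * u) = q * u * q⁻¹ * u⁻¹ * (u * u) * (q * q) := by
      calc q * u * (q * u) = q * u * q⁻¹ * (q * q * u) := by group
        _ = q * u * q⁻¹ * (u * (q * q)) := by rw [hqc u]
        _ = q * u * q⁻¹ * u⁻¹ * (u * u) * (q * q) := by group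
    rw [e1]
    exact mul_mem hz (A.sq q hq)
  obtain ⟨-, w, -, -, hwM, hw2, haw, hbad, hwXK, n₁, hn₁, q₁, hq₁, hq₁Z, hq₁c⟩ :=
    axis_pair A hclosed hK he hne hh hhM hxU hxX hx2
  have hwc : w ∉ center G := fun hwC => hq₁Z (mem_Z_of_center (B := B) (A.leU hq₁) (by
    have h1 := mul_mem (hN.conj_mem _ hwC n₁) (inv_mem hq₁c)
    rwa [mul_inv_rev, inv_inv, mul_inv_cancel_left] at h1))
  obtain ⟨a, ha⟩ : ∃ a, a = h * e * h⁻¹ := ⟨_, rfl⟩
  rw [← ha] at haw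
  have hσa : σ a = a := by rw [ha]; simp only [map_mul, map_inv, hh, B.fixZ he]
  set π := QuotientGroup.mk' (center G) with hπ
  set E := ncen a ⊓ ((X ⊔ K).map π).comap π with hE
  have hXKM : X ⊔ K ≤ H₀ := sup_le (A.leU.trans B.hUM) hK.le
  have hEM : E ≤ H₀ := by
    rintro y ⟨-, hy⟩
    obtain ⟨v, hv, hvy⟩ := hy
    have := mul_mem (hXKM hv) (B.center_le (QuotientGroup.eq.mp hvy))
    rwa [mul_inv_cancel_left] at this
  have hEi : SInv σ E := by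
    rintro y ⟨hy1, hy2⟩
    refine ⟨inv_ncen hσa y hy1, ?_⟩
    obtain ⟨v, hv, hvy⟩ := hy2
    refine ⟨σ v, inv_sup A.inv hK.inv v hv, QuotientGroup.eq.mpr ?_⟩
    have h1 : v⁻¹ * y ∈ center G := QuotientGroup.eq.mp hvy
    rwa [← B.cfg.center_fix _ h1, map_mul, map_inv] at h1
  obtain ⟨P, hPi, -, hP⟩ := exists_inv_syl_ge B.cfg.hr B.cfg.hσ B.cfg.hcop hEi
    (Q := ⊥) (fun y hy => by rw [mem_bot.mp hy, map_one]; exact one_mem _) bot_le
    IsPGroup.of_bot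
  obtain ⟨c, hc, hσc, hcS⟩ := B.conj_into_S (T := P) hPi (hP.1.trans hEM) hP.2.1
  obtain ⟨y, hy, -, ⟨o, ho⟩, hyw⟩ : ∃ y, y ∈ E ∧ True ∧ (∃ o, y ^ 2 ^ o = 1) ∧
      w⁻¹ * y ∈ center G := by
    obtain ⟨y, ⟨o, hyo⟩, hy2, hyw⟩ := exists_two_pow_rep hw2
    have h1 : w⁻¹ * y ∈ center G := by
      have := inv_mem hyw
      rwa [mul_inv_rev, inv_inv] at this
    refine ⟨y, ⟨?_, ?_⟩, trivial, hy2, h1⟩
    · have hwn : w ∈ ncen a := ncen_symm haw
      rw [show y = w * (w⁻¹ * y) by group]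
      exact mul_mem hwn (center_le_ncen a h1)
    · show π y ∈ (X ⊔ K).map π
      rwa [show π y = π w from (QuotientGroup.eq.mpr h1).symm]
  obtain ⟨k, hk, hkP⟩ := hP.2.2 (zpowers y) (zpowers_le.mpr hy) (isPGroup_two_zpowers ho)
  obtain ⟨t, ht⟩ : ∃ t, t = c * (k * y * k⁻¹) * c⁻¹ := ⟨_, rfl⟩
  have htS : t ∈ S := ht ▸ hcS _ (hkP y (mem_zpowers y))
  have htXK : π t ∈ (X ⊔ K).map π := by
    obtain ⟨v, hv, hvy⟩ := (hP.1 (hkP y (mem_zpowers y))).2
    refine ⟨c * v * c⁻¹, sup_core_conj (B := B) hK A.le A.leU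
      (fun n hn hnN y hy => conj_X A hn hnN hy) hc hv, ?_⟩
    rw [ht, map_mul, map_mul, hvy, ← map_mul, ← map_mul]
  obtain ⟨q, hq, hqt⟩ := mem_of_sup_core (B := B) hK A.leU htS htXK
  have hck : c * k ∈ H₀ := mul_mem hc (hEM hk)
  have hqZ : q ∉ Z := fun hqZ => hbad (by
    rw [← ncen_congr hyw]
    refine ncen_conj_le hck ?_
    rw [show c * k * y * (c * k)⁻¹ = t by rw [ht]; group, ncen_congr hqt]
    refine B.ncen_le hqZ fun hqC => hwc ?_
    have h1 := hN.conj_mem _ (mul_mem hqC hqt) (c * k)⁻¹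
    rw [mul_inv_cancel_left, show (c * k)⁻¹ * t * (c * k)⁻¹⁻¹ = y by rw [ht]; group] at h1
    have h2 := mul_mem h1 (inv_mem hyw)
    rwa [mul_inv_rev, inv_inv, mul_inv_cancel_left] at h2)
  obtain ⟨a', ha'⟩ : ∃ a', a' = c * a * c⁻¹ := ⟨_, rfl⟩
  have hσa' : σ a' = a' := by rw [ha']; simp only [map_mul, map_inv, hσc, hσa]
  have hta : q ∈ ncen a' := by
    have h1 : t ∈ ncen a' := ha' ▸ ht ▸ conj_mem_ncen (hP.1 (hkP y (mem_zpowers y))).1
    rw [show q = t * (q⁻¹ * t)⁻¹ by group]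
    exact mul_mem h1 (center_le_ncen a' (inv_mem hqt))
  refine ⟨e, c * h, he, hne, by rw [map_mul, hσc, hh], fun hm => hhM ?_, fun v hv => ncen_symm ?_,
    x, hxU, hxX, hx2⟩
  · have := mul_mem (inv_mem hc) hm
    rwa [inv_mul_cancel_left] at this
  rw [show c * h * e * (c * h)⁻¹ = a' by rw [ha', ha]; group]
  have hY : (ncen a' ⊓ X) ⊔ Z = X := by
    refine (A.irred _ (inv_sup (inv_inf (inv_ncen hσa') A.inv) (fun z hz => by
      rw [B.fixZ hz]; exact hz)) le_sup_right (sup_le inf_le_right A.le)).resolve_left fun he' =>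
      hqZ (he'.le (mem_sup_left ⟨hta, hq⟩))
  refine (closure_le _).mpr ?_ hv
  rintro _ ⟨u, hu, rfl⟩
  rw [← hY] at hu
  obtain ⟨y', hy', z, hz, rfl⟩ := exists_mul_of_mem_sup'
    (fun v hv => H10.Shult.Rank.mem_normalizer_of_conj fun z hz => by
      rwa [B.cfg.cenU v (A.leU hv.2) z hz, mul_inv_cancel_right]) hu
  have hmv : (y' * z)⁻¹ * σ (y' * z) = y'⁻¹ * σ y' := by
    have h1 := B.cfg.cenU _ (mul_mem (inv_mem (A.leU hy'.2)) (B.cfg.invU _ (A.leU hy'.2))) _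
      (inv_mem hz)
    rw [map_mul, B.fixZ hz, show (y' * z)⁻¹ * (σ y' * z) = z⁻¹ * (y'⁻¹ * σ y') * z by group, ← h1,
      inv_mul_cancel_right]
  show (y' * z)⁻¹ * σ (y' * z) ∈ ncen a'
  rw [hmv]
  exact mul_mem (inv_mem hy'.1) (inv_ncen hσa' _ hy'.1)

/-- All fixed elements lie in a closed `H₀`. -/
theorem Axis.false_of_closed {h : G} (hh : σ h = h) (hhM : h ∉ H₀) : False := by
  haveI hN : (center G).Normal := inferInstance
  haveI := Fact.mk B.cfg.hp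
  obtain ⟨K, hK⟩ := B.exists_core
  obtain ⟨e, g, he, hne, hg, hgM, hcomm, x, hxU, hxX, hx2⟩ := exists_axis_comm A hclosed hh hhM
  obtain ⟨l, w, hord, hwT, hwM, hw2, haw, hbad, hwXK, n₀, hn₀, q₀, hq₀, hq₀Z, hq₀c⟩ :=
    axis_pair A hclosed hK he hne hg hgM hxU hxX hx2
  obtain ⟨a, ha⟩ : ∃ a, a = g * e * g⁻¹ := ⟨_, rfl⟩
  set π := QuotientGroup.mk' (center G) with hπ
  have hπ1 : ∀ {w : G}, π w = 1 ↔ w ∈ center G := QuotientGroup.eq_one_iff _
  have hXc : ∀ {y : G}, y ∈ H₀ → ∀ v ∈ X ⊔ K, y * v * y⁻¹ ∈ X ⊔ K := fun hy v hv =>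
    sup_core_conj (B := B) hK A.le A.leU (fun n hn hnN y hy => conj_X A hn hnN hy) hy hv
  have hZc : ∀ {y : G}, y ∈ H₀ → ∀ v ∈ Z ⊔ K, y * v * y⁻¹ ∈ Z ⊔ K := fun hy v hv =>
    sup_core_conj (B := B) hK le_rfl B.hZU (fun n hn hnN y hy => conj_Z (B := B) hn hnN hy) hy hv
  have hxout : π x ∉ (X ⊔ K).map π := fun hmem => by
    obtain ⟨q, hq, hqx⟩ := mem_of_sup_core (B := B) hK A.leU (B.hUS hxU) hmem
    refine hxX ?_
    have := mul_mem hq (A.le (mem_Z_of_center (B := B) (mul_mem (inv_mem (A.leU hq)) hxU) hqx))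
    rwa [mul_inv_cancel_left] at this
  rw [← ha] at hord hwT haw hcomm
  have ha2 : π a * π a = 1 := by
    rw [← map_mul, ha, show g * e * g⁻¹ * (g * e * g⁻¹) = g * (e * e) * g⁻¹ by group,
      B.cfg.sqZ e he, mul_one, mul_inv_cancel, map_one]
  have hx2' : π x * π x = 1 := by rw [← map_mul]; exact hπ1.mpr hx2
  obtain ⟨T, hT⟩ : ∃ T, T = π a * π x := ⟨_, rfl⟩
  rw [← hT] at hord hwT
  have hxt : π x = π a * T := by rw [hT, ← mul_assoc, ha2, one_mul]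
  rcases Nat.even_or_odd l with ⟨j, hj⟩ | ⟨j, hj⟩
  swap
  · -- `a` is conjugate to `x w`
    obtain ⟨c, hc⟩ := QuotientGroup.mk'_surjective (center G) (T ^ (j + 1))
    have hc' : π c = T ^ (j + 1) := hc
    have hgy : π (c⁻¹ * g * e * (c⁻¹ * g)⁻¹) = π (x * w) := by
      rw [show c⁻¹ * g * e * (c⁻¹ * g)⁻¹ = c⁻¹ * a * c by rw [ha]; group, map_mul, map_mul, map_inv,
        hc', hT, invol_conj_self ha2 hx2', ← hT, map_mul, hwT, hxt, mul_assoc, ← pow_succ',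
        show 2 * (j + 1) = l + 1 by omega]
    have hgM' : c⁻¹ * g ∈ H₀ := hclosed _ e he hne (by
      obtain ⟨d, hd, hde⟩ : ∃ d ∈ center G, c⁻¹ * g * e * (c⁻¹ * g)⁻¹ = x * w * d :=
        ⟨(x * w)⁻¹ * (c⁻¹ * g * e * (c⁻¹ * g)⁻¹), QuotientGroup.eq.mp hgy.symm, by group⟩
      rw [hde]
      exact mul_mem (mul_mem (B.hUM hxU) hwM) (B.center_le hd))
    refine hxout ?_
    rw [show π x = π (x * w) * (π w)⁻¹ by rw [map_mul, mul_inv_cancel_right], ← hgy]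
    refine mul_mem ⟨_, ?_, rfl⟩ (inv_mem hwXK)
    exact sup_le_sup_right A.le K (hZc hgM' _ (mem_sup_left he))
  -- a square root of `w`
  obtain ⟨t, ht⟩ := QuotientGroup.mk'_surjective (center G) (T ^ j)
  have ht' : π t = T ^ j := ht
  have htt : π t * π t = π w := by rw [ht', ← pow_add, ← hj, hwT]
  have hW2 : π w * π w = 1 := by rw [← map_mul]; exact hπ1.mpr hw2
  have htconj : π t * π x * (π t)⁻¹ = π (w * x) := by
    have h1 : π w * π a = π a * π w := by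
      have := hπ1.mpr (mem_ncen.mp haw)
      rw [map_mul, map_mul, map_mul, map_inv, map_inv, mul_inv_eq_one, mul_inv_eq_iff_eq_mul] at this
      exact this.symm
    have h2 : π a * π t * π a⁻¹ = (π t)⁻¹ := by
      rw [ht', map_inv, hT]; exact invol_conj_pow ha2 hx2' j
    rw [map_inv, inv_eq_of_mul_eq_one_right ha2] at h2
    have h3 : π t * π a = π a * (π t)⁻¹ := by rw [← h2, ← mul_assoc, ← mul_assoc, ha2, one_mul]
    have hwi : (π t)⁻¹ * (π t)⁻¹ = π w := by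
      rw [← mul_inv_rev, htt, inv_eq_of_mul_eq_one_right hW2]
    calc π t * π x * (π t)⁻¹ = π a * (π t)⁻¹ * (T * (π t)⁻¹) := by rw [hxt, ← h3]; group
      _ = π a * ((π t)⁻¹ * (π t)⁻¹) * T := by
        rw [show T * (π t)⁻¹ = (π t)⁻¹ * T by rw [ht']; exact ((Commute.self_pow T j).inv_right).eq]
        group
      _ = π w * (π a * T) := by rw [hwi, ← h1, mul_assoc]
      _ = π (w * x) := by rw [map_mul, hxt]
  have hxXc : ∀ q ∈ X, q⁻¹ * x ∉ center G := fun q hq hc =>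
    hxout ⟨q, mem_sup_left hq, (QuotientGroup.eq.mpr hc : π q = π x)⟩
  have hwxM : w * x ∈ H₀ := mul_mem hwM (B.hUM hxU)
  have hwx2 : w * x * (w * x) ∈ center G := hπ1.mp (by
    rw [map_mul, ← htconj, show π t * π x * (π t)⁻¹ * (π t * π x * (π t)⁻¹) =
      π t * (π x * π x) * (π t)⁻¹ by group, hx2', mul_one, mul_inv_cancel])
  obtain ⟨y, ⟨o, hyo⟩, ⟨s, hs⟩, hyc⟩ := exists_two_pow_rep hwx2
  have hyπ : π y = π (w * x) := QuotientGroup.eq.mpr hyc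
  have hyM : y ∈ H₀ := hyo ▸ pow_mem hwxM o
  have hle : ncen (w * x) ≤ H₀ := by
    rw [ncen_congr hyc]
    refine (axis_cases A hclosed hyM hs (hπ1.mp (by
      rw [map_mul, hyπ, ← map_mul]; exact hπ1.mpr hwx2)) fun hyC => hxout ?_).resolve_right ?_
    · rw [show π x = (π w)⁻¹ * π (w * x) by rw [map_mul, inv_mul_cancel_left], ← hyπ,
        hπ1.mpr hyC, mul_one]
      exact inv_mem hwXK
    · rintro ⟨n, hn, q, hq, -, hqc⟩
      refine hxout ?_
      rw [show π x = (π w)⁻¹ * π (w * x) by rw [map_mul, inv_mul_cancel_left], ← hyπ]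
      refine mul_mem (inv_mem hwXK) ⟨n⁻¹ * q * n⁻¹⁻¹, hXc (inv_mem hn) q (mem_sup_left hq), ?_⟩
      have h1 : π q = π (n * y * n⁻¹) := QuotientGroup.eq.mpr hqc
      rw [map_mul, map_mul, h1, map_mul, map_mul]
      simp [mul_assoc]
  have htM : t ∈ H₀ := hclosed t e he hne (hle (by
    have h1 : e ∈ ncen x := ncen_symm (mem_ncen.mpr (A.cenS' (B.hUS hxU) he))
    rw [ncen_congr (x := w * x) (y := t * x * t⁻¹)
      (QuotientGroup.eq.mp (show π (t * x * t⁻¹) = π (w * x) by rw [map_mul, map_mul, map_inv, htconj]))]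
    exact conj_mem_ncen h1))
  obtain ⟨n, hσn, hnN, hnM, ρ, hρ, u, hu, htd⟩ := exists_normalising_mul B hK htM
  have haM : a ∉ H₀ := fun h => hgM (B.mem_of_conjZ hg he hne (ha ▸ h))
  have key : ∀ q ∈ movX σ X, q * u * q⁻¹ * u⁻¹ ∈ center G := by
    intro q hq
    have hqU : q ∈ U := A.leU (A.movX_le hq)
    have hnq : n⁻¹ * q = q * n⁻¹ :=
      A.comm_movX (by rw [map_inv, hσn]) (inv_mem hnN) hq
    obtain ⟨z, hz⟩ : ∃ z, z = q * u * q⁻¹ * u⁻¹ := ⟨_, rfl⟩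
    have hzZ : z ∈ Z := hz ▸ B.cfg.comU q hqU u hu
    obtain ⟨k, hk, hζ⟩ : ∃ k ∈ K, q * t * q⁻¹ * t⁻¹ = n * (k * z) * n⁻¹ := by
      refine ⟨q * ρ * q⁻¹ * ρ⁻¹ * (ρ * (z * ρ⁻¹ * z⁻¹)), mul_mem
        (mul_mem (conj_mem (hK.norm (B.hUM hqU)) hρ) (inv_mem hρ))
        (mul_mem hρ (conj_mem (hK.norm (B.hZM hzZ)) (inv_mem hρ))), ?_⟩
      have e1 : n⁻¹ * (q * t * q⁻¹ * t⁻¹) * n = q * (ρ * u) * q⁻¹ * (ρ * u)⁻¹ := by
        rw [htd, show n⁻¹ * (q * (n * (ρ * u)) * q⁻¹ * (n * (ρ * u))⁻¹) * n =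
          n⁻¹ * q * n * (ρ * u) * q⁻¹ * (ρ * u)⁻¹ by group, hnq]
        group
      calc q * t * q⁻¹ * t⁻¹ = n * (n⁻¹ * (q * t * q⁻¹ * t⁻¹) * n) * n⁻¹ := by group
        _ = _ := by rw [e1, hz]; group
    rw [← hz]
    by_contra hzc
    refine haM ?_
    have haq : π a * π q = π q * π a := by
      have := hπ1.mpr (mem_ncen.mp (hcomm q hq))
      rw [map_mul, map_mul, map_mul, map_inv, map_inv, mul_inv_eq_one, mul_inv_eq_iff_eq_mul] at this
      exact this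
    have hconjH : a * (q * t * q⁻¹ * t⁻¹) * a⁻¹ ∈ H₀ := by
      have e2 : π (a * (q * t * q⁻¹ * t⁻¹) * a⁻¹) = π (q * t⁻¹ * q⁻¹ * t) := by
        have hat : π a * π t * (π a)⁻¹ = (π t)⁻¹ := by
          rw [ht', hT]; exact invol_conj_pow ha2 hx2' j
        have hat' : π a * (π t)⁻¹ * (π a)⁻¹ = π t := by
          have := congrArg (·⁻¹) hat
          simp only [mul_inv_rev, inv_inv, ← mul_assoc] at this
          exact this
        have haq' : π a * π q * (π a)⁻¹ = π q := by rw [haq, mul_inv_cancel_right]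
        have haq'' : π a * (π q)⁻¹ * (π a)⁻¹ = (π q)⁻¹ := by
          have := congrArg (·⁻¹) haq'
          simp only [mul_inv_rev, inv_inv, ← mul_assoc] at this
          exact this
        simp only [map_mul, map_inv]
        rw [show π a * (π q * π t * (π q)⁻¹ * (π t)⁻¹) * (π a)⁻¹ =
          π a * π q * (π a)⁻¹ * (π a * π t * (π a)⁻¹) * (π a * (π q)⁻¹ * (π a)⁻¹) *
            (π a * (π t)⁻¹ * (π a)⁻¹) by group, haq', hat, haq'', hat']
      have h1 : q * t⁻¹ * q⁻¹ * t ∈ H₀ :=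
        mul_mem (mul_mem (mul_mem (B.hUM hqU) (inv_mem htM)) (inv_mem (B.hUM hqU))) htM
      have h2 := mul_mem h1 (B.center_le (QuotientGroup.eq.mp e2.symm))
      rwa [mul_inv_cancel_left] at h2
    -- an odd power of the commutator is a conjugate of `z`
    have hkk : (k * z) * (k * z) ∈ K := by
      rw [show k * z * (k * z) = k * (z * k * z⁻¹) * (z * z) by group, B.cfg.sqZ z hzZ, mul_one]
      exact mul_mem hk (conj_mem (hK.norm (B.hZM hzZ)) hk)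
    obtain ⟨i, hi⟩ := hK.pg ⟨_, hkk⟩
    have hi' : ((k * z) * (k * z)) ^ p ^ i = 1 := congrArg Subtype.val hi
    obtain ⟨N, hN'⟩ : ∃ N, N = p ^ i := ⟨_, rfl⟩
    have hNodd : Odd N := hN' ▸ (B.cfg.hp.odd_of_ne_two B.cfg.hp2).pow
    obtain ⟨b, hb⟩ : ∃ b, b = (k * z) ^ N := ⟨_, rfl⟩
    have hb2 : b * b = 1 := by rw [hb, ← (Commute.refl (k * z)).mul_pow, hN', hi']
    have hbz : z * b ∈ K := by
      obtain ⟨j', hj'⟩ := hNodd
      rw [hb, hj', pow_succ', pow_mul, sq, show z * (k * z * (k * z * (k * z)) ^ j') =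
        z * k * z⁻¹ * (z * z) * (k * z * (k * z)) ^ j' by group, B.cfg.sqZ z hzZ, mul_one]
      exact mul_mem (conj_mem (hK.norm (B.hZM hzZ)) hk) (pow_mem hkk j')
    have hzb : Odd (orderOf (z * b)) := by
      obtain ⟨i', hi2⟩ := hK.pg ⟨_, hbz⟩
      exact ((B.cfg.hp.odd_of_ne_two B.cfg.hp2).pow).of_dvd_nat
        (orderOf_dvd_of_pow_eq_one (congrArg Subtype.val hi2))
    obtain ⟨i'', hconj⟩ := invol_conj_of_odd (B.cfg.sqZ z hzZ) hb2 hzb
    obtain ⟨C, hC⟩ : ∃ C, C = (z * b) ^ i'' := ⟨_, rfl⟩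
    rw [← hC] at hconj
    have hCM : n * C⁻¹ ∈ H₀ := mul_mem hnM (inv_mem (hC ▸ hK.le (pow_mem hbz i'')))
    have hmem := hclosed (a * (n * C⁻¹)) z hzZ hzc (by
      have e3 : a * (n * C⁻¹) * z * (a * (n * C⁻¹))⁻¹ = (a * (q * t * q⁻¹ * t⁻¹) * a⁻¹) ^ N := by
        calc a * (n * C⁻¹) * z * (a * (n * C⁻¹))⁻¹ = a * (n * (C⁻¹ * z * C) * n⁻¹) * a⁻¹ := by
              group
          _ = (a * (q * t * q⁻¹ * t⁻¹) * a⁻¹) ^ N := by
              rw [hconj, hb, ← conj_pow, ← conj_pow, hζ]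
      rw [e3]
      exact pow_mem hconjH N)
    have := mul_mem hmem (inv_mem hCM)
    rwa [mul_inv_cancel_right] at this
  have huX : u ∈ X := A.perp hu fun v hv => by
    obtain ⟨q, hq, z, hz, rfl⟩ := A.split hv
    have hzu : z * u = u * z := (B.cfg.cenU u hu z hz).symm
    rw [show q * z * u * (q * z)⁻¹ * u⁻¹ = q * (z * u) * z⁻¹ * q⁻¹ * u⁻¹ by group, hzu,
      show q * (u * z) * z⁻¹ * q⁻¹ * u⁻¹ = q * u * q⁻¹ * u⁻¹ by group]
    exact key q hq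
  -- `w` lies in `Z K`
  obtain ⟨f, hf⟩ : ∃ f, f = n * n := ⟨_, rfl⟩
  have hσf : σ f = f := by rw [hf, map_mul, hσn]
  have hdec : ∃ v ∈ Z ⊔ K, t * t = f * v := by
    obtain ⟨z, hz⟩ : ∃ z, z = n⁻¹ * u * n⁻¹⁻¹ * u⁻¹ := ⟨_, rfl⟩
    have hzZ : z ∈ Z := hz ▸ A.actX (U.normalizerMonoidHom ⟨n⁻¹, inv_mem hnN⟩)
      (mem_act.mpr ⟨n⁻¹, by rw [map_inv, hσn], inv_mem hnN, fun u => rfl⟩) ⟨u, hu⟩ huX
    refine ⟨(n⁻¹ * ρ * n) * (z * (u * ρ * u⁻¹)) * (u * u), ?_, by rw [htd, hf, hz]; group⟩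
    exact mul_mem (mul_mem (mem_sup_right (inv_conj_mem (hK.norm hnM) hρ))
      (mul_mem (mem_sup_left hzZ) (mem_sup_right (conj_mem (hK.norm (B.hUM hu)) hρ))))
      (mem_sup_left (B.cfg.sqU u hu))
  obtain ⟨v, hv, htv⟩ := hdec
  have hfZ : π f ∈ (Z ⊔ K).map π := by
    have hfX : π f ∈ (X ⊔ K).map π := by
      rw [show π f = π w * (π v)⁻¹ by rw [← htt, ← map_mul π t t, htv, map_mul, mul_inv_cancel_right]]
      exact mul_mem hwXK (inv_mem ⟨v, sup_le_sup_right A.le K hv, rfl⟩)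
    obtain ⟨v', hv', hvf⟩ := hfX
    have hc : v'⁻¹ * f ∈ center G := QuotientGroup.eq.mp hvf
    have hσv : σ v' = v' := by
      have := B.cfg.center_fix _ hc
      rw [map_mul, map_inv, hσf] at this
      exact inv_injective (mul_right_cancel this)
    obtain ⟨k, hk, -, z, hz, rfl⟩ := B.exists_mul_fixed hK (show v' ∈ K ⊔ U from
      sup_le (A.leU.trans le_sup_right) le_sup_left hv') hσv
    exact ⟨k * z, mul_mem (mem_sup_right hk) (mem_sup_left hz), hvf⟩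
  have hwZ : π w ∈ (Z ⊔ K).map π := by
    rw [← htt, ← map_mul, htv, map_mul]
    exact mul_mem hfZ ⟨v, hv, rfl⟩
  obtain ⟨v₀, hv₀, hv₀w⟩ := hwZ
  have hq₀π : π q₀ ∈ (Z ⊔ K).map π := by
    refine ⟨n₀ * v₀ * n₀⁻¹, hZc hn₀ v₀ hv₀, ?_⟩
    rw [show π q₀ = π (n₀ * w * n₀⁻¹) from QuotientGroup.eq.mpr hq₀c]
    simp only [map_mul, hv₀w]
  obtain ⟨z, hz, hzq⟩ := mem_of_sup_core (B := B) hK B.hZU (B.hUS (A.leU hq₀)) hq₀π
  refine hq₀Z ?_
  have := mul_mem hz (mem_Z_of_center (B := B) (mul_mem (inv_mem (B.hZU hz)) (A.leU hq₀)) hzq)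
  rwa [mul_inv_cancel_left] at this

end H12.Shult
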