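import Cfsg.Agent.H85.Shult.Setting
import Cfsg.Agent.H41.Shult.Coprime
import Cfsg.Agent.H12.RComp.Basic
import Cfsg.Agent.H1.CoprimeAction
import Mathlib.GroupTheory.IsPerfect

/-!
General lemmas for the construction of the maximal invariant overgroup in S3041:
invariant subgroups, displacements, `p`-groups normalised by a 2-group (helper12).
-/

set_option autoImplicit false
set_option linter.all false

open Subgroup
open H85.Shult (Inv disp fixed subset_disp disp_le disp_mono inv_disp le_normalizer_disp)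
open scoped Pointwise commutatorElement

namespace H12.Shult

variable {G : Type*} [Group G]

theorem conj_mem {A : Subgroup G} {g a : G} (hg : g ∈ normalizer (A : Set G)) (ha : a ∈ A) :
    g * a * g⁻¹ ∈ A := (mem_normalizer_iff.mp hg a).mp ha

theorem inv_conj_mem {A : Subgroup G} {g a : G} (hg : g ∈ normalizer (A : Set G)) (ha : a ∈ A) :
    g⁻¹ * a * g ∈ A := by
  simpa using conj_mem (inv_mem hg) ha

/-- A subgroup normalising two subgroups normalises their commutator. -/
theorem le_normalizer_commutator_of_le {X A B : Subgroup G}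
    (hA : X ≤ normalizer (A : Set G)) (hB : X ≤ normalizer (B : Set G)) :
    X ≤ normalizer ((⁅A, B⁆ : Subgroup G) : Set G) := by
  intro x hx
  rw [mem_normalizer_iff_map_conj_eq, map_commutator,
    mem_normalizer_iff_map_conj_eq.mp (hA hx), mem_normalizer_iff_map_conj_eq.mp (hB hx)]

/-- A subgroup normalising two subgroups normalises their join. -/
theorem le_normalizer_sup {X A B : Subgroup G}
    (hA : X ≤ normalizer (A : Set G)) (hB : X ≤ normalizer (B : Set G)) :
    X ≤ normalizer ((A ⊔ B : Subgroup G) : Set G) := by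
  intro x hx
  rw [mem_normalizer_iff_map_conj_eq, Subgroup.map_sup,
    mem_normalizer_iff_map_conj_eq.mp (hA hx), mem_normalizer_iff_map_conj_eq.mp (hB hx)]

theorem exists_mul_of_mem_sup' {A B : Subgroup G} (hAB : A ≤ normalizer (B : Set G)) {x : G}
    (hx : x ∈ A ⊔ B) : ∃ a ∈ A, ∃ b ∈ B, x = a * b := by
  rw [← SetLike.mem_coe, coe_mul_of_left_le_normalizer_right A B hAB] at hx
  obtain ⟨a, ha, b, hb, rfl⟩ := hx
  exact ⟨a, ha, b, hb, rfl⟩

/-- Two subgroups normalising each other with trivial intersection commute. -/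
theorem le_centralizer_of_disjoint {A B : Subgroup G} (hA : B ≤ normalizer (A : Set G))
    (hB : A ≤ normalizer (B : Set G)) (hd : Disjoint A B) : A ≤ centralizer (B : Set G) := by
  intro a ha
  refine mem_centralizer_iff.mpr fun b hb => ?_
  have h1 : b * a * b⁻¹ * a⁻¹ ∈ A := mul_mem (conj_mem (hA hb) ha) (inv_mem ha)
  have h2 : b * a * b⁻¹ * a⁻¹ ∈ B := by
    rw [show b * a * b⁻¹ * a⁻¹ = b * (a * b⁻¹ * a⁻¹) by group]
    exact mul_mem hb (conj_mem (hB ha) (inv_mem hb))
  have h3 := disjoint_def.mp hd h1 h2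
  rwa [mul_inv_eq_one, mul_inv_eq_iff_eq_mul] at h3

/-- An element of a `p`-group with a power of exponent prime to `p` in `K` lies in `K`. -/
theorem mem_of_pow_mem {p m : ℕ} {P K : Subgroup G} (hP : IsPGroup p P) (hm : p.Coprime m) {x : G}
    (hx : x ∈ P) (h : x ^ m ∈ K) : x ∈ K := by
  obtain ⟨k, hk⟩ := (isPGroup_iff_orderOf_dvd_pow.mp hP) ⟨x, hx⟩
  have hcop : Nat.Coprime (orderOf x) m := by
    rw [orderOf_mk] at hk
    exact (hm.pow_left k).coprime_dvd_left hk
  obtain ⟨n, hn⟩ := exists_pow_eq_self_of_coprime hcop.symm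
  rw [← hn]
  exact pow_mem h n

/-- The normaliser condition inside a `p`-group. -/
theorem lt_inf_normalizer [Finite G] {p : ℕ} [Fact p.Prime] {D P : Subgroup G}
    (hP : IsPGroup p P) (h : D < P) : D < P ⊓ normalizer (D : Set G) := by
  refine lt_of_le_of_ne (le_inf h.le le_normalizer) fun e' => ?_
  haveI := hP.isNilpotent
  have hnc : NormalizerCondition P := normalizerCondition_of_isNilpotent
  have hlt : D.subgroupOf P < ⊤ := by
    refine lt_top_iff_ne_top.mpr fun ht => ?_
    rw [subgroupOf_eq_top] at ht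
    exact not_lt_of_ge ht h
  obtain ⟨x, hx, hxD⟩ := SetLike.exists_of_lt (hnc _ hlt)
  refine hxD ?_
  show (x : G) ∈ D
  rw [e']
  refine ⟨x.2, mem_normalizer_iff.mpr fun y => ⟨fun hy => ?_, fun hy => ?_⟩⟩
  · exact (mem_normalizer_iff.mp hx ⟨y, h.le hy⟩).mp hy
  · have hyP : y ∈ P := by
      have := mul_mem (mul_mem (inv_mem x.2) (h.le hy)) x.2
      simpa [mul_assoc] using this
    exact (mem_normalizer_iff.mp hx ⟨y, hyP⟩).mpr hy

/-- A perfect nontrivial finite group is not a `p`-group. -/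
theorem not_isPGroup_top [Finite G] [Nontrivial G] (hperf : commutator G = ⊤) {p : ℕ}
    [Fact p.Prime] : ¬ IsPGroup p (⊤ : Subgroup G) := fun h => by
  haveI : Group.IsPerfect G := ⟨hperf⟩
  haveI := (h.of_equiv Subgroup.topEquiv).isNilpotent
  exact Group.IsPerfect.not_isSolvable G inferInstance

section Automorphism

variable {σ : MulAut G}

theorem inv_iff_map_le {A : Subgroup G} : Inv σ A ↔ A.map σ.toMonoidHom ≤ A :=
  ⟨fun h => map_le_iff_le_comap.mpr h, fun h _ ha => h (mem_map_of_mem _ ha)⟩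

theorem inv_sup {A B : Subgroup G} (hA : Inv σ A) (hB : Inv σ B) : Inv σ (A ⊔ B) := by
  rw [inv_iff_map_le, Subgroup.map_sup]
  exact sup_le_sup (inv_iff_map_le.mp hA) (inv_iff_map_le.mp hB)

theorem inv_inf {A B : Subgroup G} (hA : Inv σ A) (hB : Inv σ B) : Inv σ (A ⊓ B) :=
  fun a ha => ⟨hA a ha.1, hB a ha.2⟩

theorem inv_commutator {A B : Subgroup G} (hA : Inv σ A) (hB : Inv σ B) : Inv σ ⁅A, B⁆ := by
  rw [inv_iff_map_le, map_commutator]
  exact commutator_mono (inv_iff_map_le.mp hA) (inv_iff_map_le.mp hB)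

theorem inv_normalizer [Finite G] {A : Subgroup G} (hA : Inv σ A) :
    Inv σ (normalizer (A : Set G)) := H12.RComp.Inv.normalizer hA

theorem inv_centralizer [Finite G] {A : Subgroup G} (hA : Inv σ A) :
    Inv σ (centralizer (A : Set G)) := H12.RComp.Inv.centralizer hA

theorem inv_centralizer_fixed {x : G} (hx : σ x = x) : Inv σ (centralizer ({x} : Set G)) := by
  intro y hy
  rw [mem_centralizer_singleton_iff] at hy ⊢
  nth_rw 1 [← hx]
  nth_rw 2 [← hx]
  rw [← map_mul, ← map_mul, hy]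

theorem inv_fixed : Inv σ (fixed σ) := fun x hx => by
  show σ (σ x) = σ x
  exact congrArg σ hx

theorem inv_top : Inv σ (⊤ : Subgroup G) := fun _ _ => trivial

/-- Conjugation by a fixed element maps displacements to displacements. -/
theorem conj_disp_mem {A B : Subgroup G} {c : G} (hc : σ c = c)
    (h : ∀ a ∈ A, c * a * c⁻¹ ∈ B) {y : G} (hy : y ∈ disp σ A) : c * y * c⁻¹ ∈ disp σ B := by
  suffices hle : (disp σ A).map (MulAut.conj c).toMonoidHom ≤ disp σ B from
    hle ⟨y, hy, rfl⟩
  rw [disp, MonoidHom.map_closure, closure_le]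
  rintro _ ⟨_, ⟨a, ha, rfl⟩, rfl⟩
  have e : σ (c * a * c⁻¹) * (c * a * c⁻¹)⁻¹ = c * (σ a * a⁻¹) * c⁻¹ := by
    rw [map_mul, map_mul, map_inv, hc]; group
  have := subset_disp (σ := σ) (h a ha)
  rw [e] at this
  exact this

variable {r : ℕ} [Finite G]

/-- An element with displacement in an invariant subgroup normalised by it is a fixed element
times an element of this subgroup. -/
theorem exists_fixed_mul (hr : r.Prime) (hσ : σ ^ r = 1) (hcop : ¬ r ∣ Nat.card G)
    {D : Subgroup G} (hD : Inv σ D) {h : G} (hn : h ∈ normalizer (D : Set G))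
    (hd : σ h * h⁻¹ ∈ D) : ∃ c d : G, d ∈ D ∧ σ c = c ∧ h = c * d := by
  have h1 : h⁻¹ * σ h ∈ D := by
    have := inv_conj_mem hn hd
    simpa [mul_assoc] using this
  obtain ⟨d, hd', he⟩ := H41.Shult.exists_fixed_coset hr hσ hcop hD h1
  exact ⟨h * d, d⁻¹, inv_mem hd', he, by group⟩

/-- `[H, σ, σ] = [H, σ]`. -/
theorem disp_disp (hr : r.Prime) (hσ : σ ^ r = 1) (hcop : ¬ r ∣ Nat.card G) {H : Subgroup G}
    (hH : Inv σ H) : disp σ (disp σ H) = disp σ H := by
  refine le_antisymm (disp_mono (disp_le hH)) ?_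
  conv_lhs => rw [disp]
  rw [closure_le]
  rintro _ ⟨h, hh, rfl⟩
  obtain ⟨c, d, hd, hc, rfl⟩ := exists_fixed_mul hr hσ hcop (inv_disp hH)
    (le_normalizer_disp hh) (subset_disp hh)
  have hcH : c ∈ H := by
    simpa using mul_mem hh (inv_mem (disp_le hH hd))
  have e : σ (c * d) * (c * d)⁻¹ = c * (σ d * d⁻¹) * c⁻¹ := by rw [map_mul, hc]; group
  show σ (c * d) * (c * d)⁻¹ ∈ disp σ (disp σ H)
  rw [e]
  exact conj_disp_mem hc (fun a ha => conj_mem (le_normalizer_disp hcH) ha) (subset_disp hd)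

/-- The fixed conjugate taking one invariant subgroup to another. -/
theorem conj_eq_of_card {c : G} {P Q : Subgroup G} (h : ∀ x ∈ P, c * x * c⁻¹ ∈ Q)
    (hcard : Nat.card Q ≤ Nat.card P) {y : G} (hy : y ∈ Q) : ∃ x ∈ P, y = c * x * c⁻¹ := by
  obtain ⟨⟨x, hx⟩, he⟩ := (Function.Injective.bijective_of_nat_card_le
    (f := fun x : P => (⟨c * x * c⁻¹, h x x.2⟩ : Q))
    (fun u v e => Subtype.ext (by simpa using congrArg Subtype.val e)) hcard).2 ⟨y, hy⟩
  exact ⟨x, hx, (congrArg Subtype.val he).symm⟩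

end Automorphism

end H12.Shult
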