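import Cfsg.Agent.H12.Shult.Basic
import Cfsg.Agent.H66.Inverted

/-!
The `p`-subgroups generated by commutators with `U` inside the invariant overgroups of `U`:
every proper invariant `H ≥ U` is `(core H) (H ∩ N(U))` (helper12, for S3041).
-/

set_option autoImplicit false
set_option linter.all false

open Subgroup
open H85.Shult
open scoped Pointwise commutatorElement

namespace H12.Shult

variable {G : Type*} [Group G]

/-- An invariant `p`-subgroup `Y` normalised by `U` with `[Y, U] = Y`. -/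
structure Mem (σ : MulAut G) (U : Subgroup G) (p : ℕ) (Y : Subgroup G) : Prop where
  inv : Inv σ Y
  pg : IsPGroup p Y
  norm : U ≤ normalizer (Y : Set G)
  comm : ⁅Y, U⁆ = Y

/-- The join of the members inside `H`. -/
def core (σ : MulAut G) (U : Subgroup G) (p : ℕ) (H : Subgroup G) : Subgroup G :=
  sSup {Y | Mem σ U p Y ∧ Y ≤ H}

theorem le_core {σ : MulAut G} {U : Subgroup G} {p : ℕ} {H Y : Subgroup G} (h : Mem σ U p Y)
    (hY : Y ≤ H) : Y ≤ core σ U p H := le_sSup ⟨h, hY⟩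

theorem core_le {σ : MulAut G} {U : Subgroup G} {p : ℕ} {H : Subgroup G} :
    core σ U p H ≤ H := sSup_le fun _ h => h.2

theorem core_mono {σ : MulAut G} {U : Subgroup G} {p : ℕ} {H K : Subgroup G} (h : H ≤ K) :
    core σ U p H ≤ core σ U p K := sSup_le fun _ hY => le_core hY.1 (hY.2.trans h)

theorem Mem.bot (σ : MulAut G) (U : Subgroup G) (p : ℕ) : Mem σ U p (⊥ : Subgroup G) where
  inv x hx := by rw [mem_bot] at hx ⊢; rw [hx, map_one]
  pg := IsPGroup.of_bot
  norm := le_of_le_of_eq le_top (Subgroup.normalizer_eq_top (⊥ : Subgroup G)).symm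
  comm := commutator_bot_left _

theorem Mem.eq_bot_of_centralizes {σ : MulAut G} {U : Subgroup G} {p : ℕ} {Y : Subgroup G}
    (h : Mem σ U p Y) (hc : Y ≤ centralizer (U : Set G)) : Y = ⊥ := by
  rw [← h.comm]; exact commutator_eq_bot_iff_le_centralizer.mpr hc

theorem Mem.eq_bot_of_central {σ : MulAut G} {U : Subgroup G} {p : ℕ} {Y : Subgroup G}
    (h : Mem σ U p Y) (hc : Y ≤ center G) : Y = ⊥ :=
  h.eq_bot_of_centralizes (hc.trans (center_le_centralizer _))

section Config

variable [Finite G] {σ : MulAut G} {r m p : ℕ} {S U Z : Subgroup G}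
variable (C : Cfg σ r m p S U Z)
include C

theorem isSolvable_U : Group.IsSolvable U := by
  haveI : Fact (Nat.Prime 2) := ⟨Nat.prime_two⟩
  haveI := C.pU.isNilpotent
  infer_instance

theorem coprime_U {Y : Subgroup G} (hY : IsPGroup p Y) : (Nat.card U).Coprime (Nat.card Y) := by
  haveI : Fact (Nat.Prime 2) := ⟨Nat.prime_two⟩
  haveI := Fact.mk C.hp
  exact IsPGroup.coprime_card_of_ne 2 p C.hp2.symm U Y C.pU hY

theorem disp_U : disp σ U = U := by
  rw [C.defU]; exact disp_disp C.hr C.hσ C.hcop C.invS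

theorem nontrivial : Nontrivial G :=
  let ⟨u, _, hne⟩ := C.exists_moved
  ⟨σ u, u, hne⟩

theorem ne_top_of_pGroup {q : ℕ} (hq : q.Prime) {A : Subgroup G} (hA : IsPGroup q A) : A ≠ ⊤ := by
  rintro rfl
  haveI := Fact.mk hq
  haveI := nontrivial C
  exact not_isPGroup_top C.perfect hA

/-- A proper invariant subgroup with full normaliser is central. -/
theorem central_of_normalizer_top {q : ℕ} (hq : q.Prime) {A : Subgroup G} (hA : IsPGroup q A)
    (hinv : Inv σ A) (hN : normalizer (A : Set G) = ⊤) : A ≤ center G :=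
  C.normal_le A (normalizer_eq_top_iff.mp hN) hinv (ne_top_of_pGroup C hq hA)

theorem normU_ne_top : normalizer (U : Set G) ≠ ⊤ := fun h => by
  have := central_of_normalizer_top C Nat.prime_two C.pU C.invU h
  obtain ⟨u, hu, hne⟩ := C.exists_moved
  exact hne (C.center_fix u (this hu))

theorem U_le_cent {z : G} (hz : z ∈ Z) : U ≤ centralizer ({z} : Set G) := fun u hu =>
  mem_centralizer_singleton_iff.mpr (C.cenU u hu z hz)

theorem centU_le_cent {z : G} (hz : z ∈ Z) :
    centralizer (U : Set G) ≤ centralizer ({z} : Set G) :=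
  centralizer_le (Set.singleton_subset_iff.mpr (C.Z_le_U hz))

theorem cent_ne_top {e : G} (he : e ∉ center G) : centralizer ({e} : Set G) ≠ ⊤ := fun h => by
  refine he (mem_center_iff.mpr fun g => ?_)
  exact mem_centralizer_singleton_iff.mp (h ▸ mem_top g)

/-- An invariant 2-group containing `U` has all displacements in `U`. -/
theorem disp_two_le {T : Subgroup G} (hT : Inv σ T) (hT2 : IsPGroup 2 T) (hUT : U ≤ T) :
    disp σ T ≤ U := by
  haveI : Fact (Nat.Prime 2) := ⟨Nat.prime_two⟩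
  obtain ⟨P, hPi, hTP, -, hP2, hPsyl⟩ :=
    H41.Shult.exists_inv_syl_ge C.hr C.hσ C.hcop (H := ⊤) inv_top hT le_top hT2
  obtain ⟨h, -, hc⟩ := hPsyl S le_top C.pS
  have hle : Nat.card P ≤ Nat.card S := by
    refine Nat.le_of_dvd Nat.card_pos ?_
    obtain ⟨n, hn⟩ := IsPGroup.iff_card.mp hP2
    have hd : Nat.card P ∣ Nat.card S * S.index := by
      rw [card_mul_index]; exact card_subgroup_dvd_card P
    refine Nat.Coprime.dvd_of_dvd_mul_right ?_ hd
    rw [hn]
    exact Nat.Coprime.pow_left n ((Nat.prime_two.coprime_iff_not_dvd).mpr C.indexS)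
  have hcard : Nat.card S = Nat.card P := le_antisymm
    (Nat.card_le_card_of_injective (fun s : S => (⟨h * s * h⁻¹, hc s s.2⟩ : P))
      fun u v e => Subtype.ext (by simpa using congrArg Subtype.val e)) hle
  obtain ⟨c, -, hcfix, hcS⟩ := H41.Shult.exists_fixed_conj C.hr C.hσ C.hcop (H := ⊤) inv_top
    C.invS hPi hcard (mem_top h) hc
  set V : Subgroup G := U.map (MulAut.conj c).toMonoidHom with hV
  have hPV : disp σ P ≤ V := by
    rw [disp, closure_le]
    rintro _ ⟨x, hx, rfl⟩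
    obtain ⟨s, hs, rfl⟩ := conj_eq_of_card hcS hle hx
    refine ⟨σ s * s⁻¹, by rw [C.defU]; exact subset_disp hs, ?_⟩
    show c * (σ s * s⁻¹) * c⁻¹ = σ (c * s * c⁻¹) * (c * s * c⁻¹)⁻¹
    rw [map_mul, map_mul, map_inv, hcfix]; group
  have hUV : U = V := by
    refine eq_of_le_of_card_ge ?_ (card_map_of_injective (MulAut.conj c).injective).le
    rw [← disp_U C]
    exact (disp_mono (hUT.trans hTP)).trans hPV
  exact (disp_mono hTP).trans (hPV.trans hUV.ge)

/-- If the elements of `[H, σ]` have 2-power order modulo `K`, then `[H, σ] ≤ K U`. -/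
theorem disp_le_sup {H K : Subgroup G} (hH : Inv σ H) (hUH : U ≤ H) (hKH : K ≤ H)
    (hK : Inv σ K) (hHK : H ≤ normalizer (K : Set G))
    (hpow : ∀ x ∈ disp σ H, ∃ n : ℕ, x ^ 2 ^ n ∈ K) : disp σ H ≤ K ⊔ U := by
  haveI : Fact (Nat.Prime 2) := ⟨Nat.prime_two⟩
  set L := disp σ H ⊔ K with hL
  have hLH : L ≤ H := sup_le (disp_le hH) hKH
  have hLi : Inv σ L := inv_sup (inv_disp hH) hK
  have hUL : U ≤ L := by
    rw [hL, ← disp_U C]
    exact (disp_mono hUH).trans le_sup_left
  obtain ⟨T, hTi, hUT, hTsyl⟩ :=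
    H41.Shult.exists_inv_syl_ge C.hr C.hσ C.hcop (H := L) hLi C.invU hUL C.pU
  have hTL : T ≤ L := hTsyl.1
  have hT2 : IsPGroup 2 T := hTsyl.2.1
  -- the index of `T` in `L` is odd
  have hodd : ¬ 2 ∣ T.relIndex L := by
    obtain ⟨P, hP⟩ := (hT2.of_equiv (subgroupOfEquivOfLe hTL).symm).exists_le_sylow
    have hPle : Nat.card ((P : Subgroup L).map L.subtype) ≤ Nat.card T :=
      hTsyl.card_le (map_subtype_le _) (P.2.map _)
    have hPT : T.subgroupOf L = (P : Subgroup L) := by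
      refine eq_of_le_of_card_ge hP ?_
      rw [card_map_of_injective L.subtype_injective] at hPle
      rwa [Nat.card_congr (subgroupOfEquivOfLe hTL).toEquiv]
    show ¬ 2 ∣ (T.subgroupOf L).index
    rw [hPT]
    exact P.not_dvd_index
  -- the index of `K` in `L` is a power of two
  haveI hKn : (K.subgroupOf L).Normal := normal_subgroupOf_of_le_normalizer (hLH.trans hHK)
  have hq : IsPGroup 2 (L ⧸ K.subgroupOf L) := by
    intro g
    obtain ⟨⟨x, hx⟩, rfl⟩ := QuotientGroup.mk'_surjective (K.subgroupOf L) g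
    obtain ⟨d, hd, k, hk, hxe⟩ := exists_mul_of_mem_sup' ((disp_le hH).trans hHK) hx
    obtain ⟨n, hn⟩ := hpow d hd
    refine ⟨n, ?_⟩
    have hdk : QuotientGroup.mk' (K.subgroupOf L) ⟨x, hx⟩ =
        QuotientGroup.mk' (K.subgroupOf L) ⟨d, mem_sup_left hd⟩ := by
      refine (QuotientGroup.eq (s := K.subgroupOf L)).mpr ?_
      show x⁻¹ * d ∈ K
      rw [hxe, show (d * k)⁻¹ * d = k⁻¹ by group]
      exact inv_mem hk
    rw [hdk, ← map_pow]
    exact (QuotientGroup.eq_one_iff _).mpr hn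
  obtain ⟨a, ha⟩ := IsPGroup.iff_card.mp hq
  have h1 : (T ⊔ K).relIndex L = 1 := by
    have hd1 : (T ⊔ K).relIndex L ∣ 2 ^ a := by
      rw [← ha]
      exact relIndex_dvd_of_le_left L (le_sup_right : K ≤ T ⊔ K)
    have hd2 : (T ⊔ K).relIndex L ∣ T.relIndex L :=
      relIndex_dvd_of_le_left L (le_sup_left : T ≤ T ⊔ K)
    exact Nat.dvd_one.mp ((Nat.Coprime.pow_left a
      ((Nat.prime_two.coprime_iff_not_dvd).mpr hodd)) ▸ Nat.dvd_gcd hd1 hd2)
  have hLTK : L ≤ T ⊔ K := relIndex_eq_one.mp h1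
  have hdT : disp σ T ≤ U := disp_two_le C hTi hT2 hUT
  have hdL : disp σ L ≤ K ⊔ U := by
    rw [disp, closure_le]
    rintro _ ⟨l, hl, rfl⟩
    obtain ⟨t, ht, k, hk, rfl⟩ := exists_mul_of_mem_sup' ((hTL.trans hLH).trans hHK) (hLTK hl)
    show σ (t * k) * (t * k)⁻¹ ∈ K ⊔ U
    rw [show σ (t * k) * (t * k)⁻¹ = (σ t * t⁻¹) * (t * (σ k * k⁻¹) * t⁻¹) by
      rw [map_mul]; group]
    exact mul_mem (mem_sup_right (hdT (subset_disp ht)))
      (mem_sup_left (conj_mem (hHK (hLH (hTL ht))) (mul_mem (hK k hk) (inv_mem hk))))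
  have hnL : H ≤ normalizer (L : Set G) := le_normalizer_sup le_normalizer_disp hHK
  refine le_trans ?_ hdL
  conv_lhs => rw [disp]
  rw [closure_le]
  rintro _ ⟨h, hh, rfl⟩
  obtain ⟨c, d, hd, hc, rfl⟩ := exists_fixed_mul C.hr C.hσ C.hcop hLi
    (hnL hh) (mem_sup_left (subset_disp hh))
  have hcH : c ∈ H := by
    simpa using mul_mem hh (inv_mem (hLH hd))
  show σ (c * d) * (c * d)⁻¹ ∈ disp σ L
  rw [show σ (c * d) * (c * d)⁻¹ = c * (σ d * d⁻¹) * c⁻¹ by rw [map_mul, hc]; group]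
  exact conj_disp_mem hc (fun a ha => conj_mem (hnL hcH) ha) (subset_disp hd)

/-- `[R, U]` is a member, for an invariant `p`-group `R` normalised by `U`. -/
theorem mem_commutator_U {R : Subgroup G} (hR : Inv σ R) (hRp : IsPGroup p R)
    (hn : U ≤ normalizer (R : Set G)) : Mem σ U p ⁅R, U⁆ where
  inv := inv_commutator hR C.invU
  pg := hRp.to_le (H1.commutator_le_left_of_le_normalizer hn)
  norm := H1.right_le_normalizer_commutator
  comm := H1.commutator_commutator_eq hn (coprime_U C hRp) (Or.inl (isSolvable_U C))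

theorem exists_core {H : Subgroup G} (hH : Inv σ H) (hne : H ≠ ⊤) (hUH : U ≤ H) :
    ∃ M : Subgroup G, Mem σ U p M ∧ M ≤ H ∧ H ≤ normalizer (M : Set G) ∧
      H ≤ M ⊔ (H ⊓ normalizer (U : Set G)) ∧ ∀ Y, Mem σ U p Y → Y ≤ H → Y ≤ M := by
  haveI := Fact.mk C.hp
  haveI : Fact (Nat.Prime 2) := ⟨Nat.prime_two⟩
  obtain ⟨K, hKH, hKp, hKi, hHK, hpow⟩ := C.small H hH hne
  have hUK : U ≤ normalizer (K : Set G) := hUH.trans hHK
  have hcop := coprime_U C hKp
  have hsol : Group.IsSolvable U ∨ Group.IsSolvable K := Or.inl (isSolvable_U C)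
  have hdisp := disp_le_sup C hH hUH hKH hKi hHK hpow
  have hUd : U ≤ disp σ H := (disp_U C).ge.trans (disp_mono hUH)
  set M := ⁅K, U⁆ with hM
  have hMK : M ≤ K := H1.commutator_le_left_of_le_normalizer hUK
  have hMn : H ⊓ normalizer (U : Set G) ≤ normalizer (M : Set G) :=
    le_normalizer_commutator_of_le (inf_le_left.trans hHK) inf_le_right
  -- `H = M (H ∩ N(U))`
  have hdec : H ≤ M ⊔ (H ⊓ normalizer (U : Set G)) := by
    intro h hh
    have hnL : H ≤ normalizer ((K ⊔ U : Subgroup G) : Set G) := by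
      rw [show K ⊔ U = K ⊔ disp σ H from le_antisymm (sup_le_sup le_rfl hUd)
        (sup_le le_sup_left hdisp)]
      exact le_normalizer_sup hHK le_normalizer_disp
    have hle : MulAut.conj h • U ≤ K ⊔ U := by
      rintro _ ⟨u, hu, rfl⟩
      exact conj_mem (hnL hh) (mem_sup_right hu)
    obtain ⟨k, hk, he⟩ := H1.exists_conj_eq_of_coprime hUK hcop.symm hsol.symm hle
      (H1.card_conj_smul _ _)
    have hkn : k⁻¹ * h ∈ normalizer (U : Set G) := by
      rw [mem_normalizer_iff_map_conj_eq]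
      show MulAut.conj (k⁻¹ * h) • U = U
      rw [map_mul, mul_smul, ← he, ← mul_smul, ← map_mul, inv_mul_cancel, map_one, one_smul]
    have hkH : k⁻¹ * h ∈ H := mul_mem (inv_mem (hKH hk)) hh
    have hk' : k ∈ M ⊔ (H ⊓ normalizer (U : Set G)) := by
      rw [← H1.commutator_sup_centralizer_eq hUK hcop hsol] at hk
      exact (sup_le_sup le_rfl (inf_le_inf hKH (centralizer_le_normalizer _))) hk
    simpa using mul_mem hk' (mem_sup_right (S := M) (Subgroup.mem_inf.mpr ⟨hkH, hkn⟩))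
  refine ⟨M, mem_commutator_U C hKi hKp hUK, hMK.trans hKH,
    hdec.trans (sup_le le_normalizer hMn), hdec, fun Y hY hYH => ?_⟩
  rw [← hY.comm, hM]
  refine commutator_mono (fun y hy => ?_) le_rfl
  have hyd : y ∈ disp σ H := by
    have : ⁅Y, U⁆ ≤ disp σ H := (commutator_mono le_rfl hUd).trans (by
      rw [commutator_comm]
      exact H1.commutator_le_left_of_le_normalizer (hYH.trans le_normalizer_disp))
    rw [hY.comm] at this
    exact this hy
  obtain ⟨n, hn⟩ := hpow y hyd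
  exact mem_of_pow_mem hY.pg (Nat.Coprime.pow_right n
    ((Nat.coprime_primes C.hp Nat.prime_two).mpr C.hp2)) hy hn

theorem core_spec {H : Subgroup G} (hH : Inv σ H) (hne : H ≠ ⊤) (hUH : U ≤ H) :
    Mem σ U p (core σ U p H) ∧ H ≤ normalizer (core σ U p H : Set G) ∧
      H ≤ core σ U p H ⊔ (H ⊓ normalizer (U : Set G)) := by
  obtain ⟨M, hM, hMH, hn, hd, hle⟩ := exists_core C hH hne hUH
  have he : core σ U p H = M := le_antisymm (sSup_le fun Y hY => hle Y hY.1 hY.2) (le_core hM hMH)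
  rw [he]; exact ⟨hM, hn, hd⟩

/-- Coprime generation of a member by the centralisers in a four-group inside `Z`. -/
theorem mem_le_of_four {Y X : Subgroup G} (hY : Mem σ U p Y) {e f : G} (he : e ∈ Z) (hf : f ∈ Z)
    (h1 : ⁅Y ⊓ centralizer ({e} : Set G), U⁆ ≤ X) (h2 : ⁅Y ⊓ centralizer ({f} : Set G), U⁆ ≤ X)
    (h3 : ⁅Y ⊓ centralizer ({e * f} : Set G), U⁆ ≤ X) : Y ≤ X := by
  haveI := Fact.mk C.hp
  have hne : ∀ {x : G}, x ∈ Z → U ≤ normalizer ((Y ⊓ centralizer ({x} : Set G) : Subgroup G) : Set G) :=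
    fun {x} hx => le_trans (le_inf hY.norm ((U_le_cent C hx).trans le_normalizer))
      inf_normalizer_le_normalizer_inf
  set A := fun x : G => ⁅Y ⊓ centralizer ({x} : Set G), U⁆ with hA
  set W := A e ⊔ A f ⊔ A (e * f) with hW
  set V := Y ⊓ centralizer (U : Set G) with hV
  have hVn : ∀ {x : G}, x ∈ Z → V ≤ normalizer (A x : Set G) := fun {x} hx =>
    (le_inf inf_le_left (inf_le_right.trans (centU_le_cent C hx))).trans
      H1.left_le_normalizer_commutator
  have hef : e * f ∈ Z := mul_mem he hf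
  have hpiece : ∀ {x : G}, x ∈ Z → A x ≤ W → Y ⊓ centralizer ({x} : Set G) ≤ W ⊔ V := by
    intro x hx hle
    rw [← H1.commutator_sup_centralizer_eq (hne hx) (coprime_U C (hY.pg.to_le inf_le_left))
      (Or.inl (isSolvable_U C))]
    exact sup_le_sup hle (inf_le_inf inf_le_left le_rfl)
  have hodd : ∀ y ∈ Y, Odd (orderOf y) := fun y hy => by
    obtain ⟨k, hk⟩ := isPGroup_iff_orderOf_dvd_pow.mp hY.pg ⟨y, hy⟩
    rw [orderOf_mk] at hk
    exact Odd.of_dvd_nat ((C.hp.odd_of_ne_two C.hp2).pow) hk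
  have hYle : Y ≤ W ⊔ V := H66.le_of_centralizers_fourGroup hodd (C.sqZ e he) (C.sqZ f hf)
    (C.cenU e (C.Z_le_U he) f hf) (fun x hx => conj_mem (hY.norm (C.Z_le_U he)) hx)
    (fun x hx => conj_mem (hY.norm (C.Z_le_U hf)) hx)
    (fun x hx hc => hpiece he (le_sup_left.trans le_sup_left)
      ⟨hx, mem_centralizer_singleton_iff.mpr hc⟩)
    (fun x hx hc => hpiece hf (le_sup_right.trans le_sup_left)
      ⟨hx, mem_centralizer_singleton_iff.mpr hc⟩)
    (fun x hx hc => hpiece hef le_sup_right ⟨hx, mem_centralizer_singleton_iff.mpr hc⟩)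
  have hVW : V ≤ normalizer (W : Set G) :=
    le_normalizer_sup (le_normalizer_sup (hVn he) (hVn hf)) (hVn hef)
  have hUW : U ≤ normalizer (W : Set G) :=
    le_normalizer_sup (le_normalizer_sup H1.right_le_normalizer_commutator
      H1.right_le_normalizer_commutator) H1.right_le_normalizer_commutator
  have hXW : W ≤ X := sup_le (sup_le h1 h2) h3
  refine le_trans (hY.comm.ge.trans ((commutator_mono hYle le_rfl).trans ?_)) hXW
  rw [commutator_le]
  intro x hx u hu
  rw [sup_comm] at hx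
  obtain ⟨c, hc, w, hw, rfl⟩ := exists_mul_of_mem_sup' hVW hx
  have hcu := mem_centralizer_iff.mp hc.2 u hu
  have : ⁅c * w, u⁆ = c * (w * (u * w⁻¹ * u⁻¹)) * c⁻¹ := by
    rw [commutatorElement_def]
    calc c * w * u * (c * w)⁻¹ * u⁻¹ = c * w * u * w⁻¹ * (c⁻¹ * u⁻¹) := by group
      _ = c * w * u * w⁻¹ * (u⁻¹ * c⁻¹) := by rw [← mul_inv_rev, hcu, mul_inv_rev]
      _ = _ := by group
  rw [this]
  exact conj_mem (hVW hc) (mul_mem hw (conj_mem (hUW hu) (inv_mem hw)))

end Config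

end H12.Shult
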