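import Cfsg.Agent.H12.Shult.Core

/-!
If the centraliser `A` of a fixed element contains a Sylow `p`-subgroup and `U`, then
`G = C(σ) A` (helper12, for S3041).
-/

set_option autoImplicit false
set_option linter.all false

open Subgroup
open H85.Shult
open scoped Pointwise

namespace H12.Shult

variable {G : Type*} [Group G] [Finite G]

theorem card_mul_relIndex_inf (F A : Subgroup G) :
    Nat.card ↥(F ⊓ A) * A.relIndex F = Nat.card F := by
  have h1 : A.subgroupOf F = (F ⊓ A).subgroupOf F := by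
    rw [inf_comm, inf_subgroupOf_right]
  have h2 : Nat.card ↥(F ⊓ A) = Nat.card (A.subgroupOf F) := by
    rw [h1, Nat.card_congr (subgroupOfEquivOfLe (inf_le_left : F ⊓ A ≤ F)).toEquiv]
  rw [h2]
  exact card_mul_index _

/-- The map of coset spaces `F/(F ∩ A) → P/(P ∩ A)`. -/
def cosetMap {F P : Subgroup G} (hF : F ≤ P) (A : Subgroup G) :
    F ⧸ A.subgroupOf F → P ⧸ A.subgroupOf P :=
  Quotient.map' (Subgroup.inclusion hF) fun a b h => by
    rw [QuotientGroup.leftRel_apply] at h ⊢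
    exact h

theorem cosetMap_injective {F P : Subgroup G} (hF : F ≤ P) (A : Subgroup G) :
    Function.Injective (cosetMap hF A) := by
  intro a b
  induction a using QuotientGroup.induction_on with
  | _ x =>
    induction b using QuotientGroup.induction_on with
    | _ y =>
      intro h
      refine (QuotientGroup.eq (s := A.subgroupOf F)).mpr ?_
      exact (QuotientGroup.eq (s := A.subgroupOf P)).mp h

/-- The order of a product `P = F A`. -/
theorem card_mul_of_prod {F A P : Subgroup G} (hF : F ≤ P) (hA : A ≤ P)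
    (h : ∀ x ∈ P, ∃ f ∈ F, ∃ a ∈ A, x = f * a) :
    Nat.card P * Nat.card ↥(F ⊓ A) = Nat.card F * Nat.card A := by
  have hs : Function.Surjective (cosetMap hF A) := by
    intro q
    induction q using QuotientGroup.induction_on with
    | _ x =>
      obtain ⟨f, hf, a, ha, he⟩ := h x x.2
      refine ⟨QuotientGroup.mk ⟨f, hf⟩, (QuotientGroup.eq (s := A.subgroupOf P)).mpr ?_⟩
      show f⁻¹ * (x : G) ∈ A
      rw [he]; simpa using ha
  have he : A.relIndex F = A.relIndex P :=
    Nat.card_eq_of_bijective _ ⟨cosetMap_injective hF A, hs⟩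
  have h1 := card_mul_relIndex_inf F A
  have h2 := card_mul_relIndex_inf P A
  rw [inf_eq_right.mpr hA] at h2
  rw [← h1, ← h2, he]
  ring

/-- If `|G| |F ∩ A|` divides `|F| |A|` then `G = F A`. -/
theorem prod_of_dvd {F A : Subgroup G}
    (hd : Nat.card G * Nat.card ↥(F ⊓ A) ∣ Nat.card F * Nat.card A) (g : G) :
    ∃ f ∈ F, ∃ a ∈ A, g = f * a := by
  have h1 := card_mul_relIndex_inf F A
  have h2 := A.card_mul_index
  have h3 : A.index ∣ A.relIndex F := by
    rw [← h1, ← h2] at hd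
    have hpos : 0 < Nat.card A * Nat.card ↥(F ⊓ A) := Nat.mul_pos Nat.card_pos Nat.card_pos
    refine Nat.dvd_of_mul_dvd_mul_left hpos ?_
    convert hd using 1 <;> ring
  have hle : Nat.card ((⊤ : Subgroup G) ⧸ A.subgroupOf ⊤) ≤ Nat.card (F ⧸ A.subgroupOf F) := by
    show A.relIndex ⊤ ≤ A.relIndex F
    rw [relIndex_top_right]
    exact Nat.le_of_dvd (Nat.pos_of_ne_zero (index_ne_zero_of_finite (H := A.subgroupOf F))) h3
  obtain ⟨q, hq⟩ := ((cosetMap_injective (le_top : F ≤ ⊤) A).bijective_of_nat_card_le hle).2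
    (QuotientGroup.mk ⟨g, mem_top g⟩)
  induction q using QuotientGroup.induction_on with
  | _ f =>
    refine ⟨f, f.2, (f : G)⁻¹ * g, ?_, by group⟩
    exact (QuotientGroup.eq (s := A.subgroupOf ⊤)).mp hq

theorem card_of_max {p : ℕ} [Fact p.Prime] {T : Subgroup G} (hT : IsPGroup p T)
    (h : ∀ R : Subgroup G, IsPGroup p R → Nat.card R ≤ Nat.card T) :
    Nat.card T = p ^ (Nat.card G).factorization p := by
  obtain ⟨P, hP⟩ := hT.exists_le_sylow
  rw [eq_of_le_of_card_ge hP (h P P.2)]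
  exact P.card_eq_multiplicity

theorem prod_of_sylow {σ : MulAut G} {r m p : ℕ} {S U Z : Subgroup G} (C : Cfg σ r m p S U Z)
    {A : Subgroup G} (hA : Inv σ A) (hUA : U ≤ A) {T : Subgroup G} (hT : IsPGroup p T)
    (hTA : T ≤ A) (hmax : ∀ R : Subgroup G, IsPGroup p R → Nat.card R ≤ Nat.card T) (g : G) :
    ∃ f ∈ fixed σ, ∃ a ∈ A, g = f * a := by
  haveI : Fact (Nat.Prime 2) := ⟨Nat.prime_two⟩
  haveI := Fact.mk C.hp
  haveI := Fact.mk C.hr
  refine prod_of_dvd ?_ g
  set F := fixed σ with hF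
  set B := F ⊓ A with hB
  have hG0 : Nat.card G ≠ 0 := Nat.card_pos.ne'
  have hB0 : Nat.card B ≠ 0 := Nat.card_pos.ne'
  rw [Nat.dvd_iff_prime_pow_dvd_dvd]
  intro q k hq hk
  have hk' : k ≤ (Nat.card G).factorization q + (Nat.card B).factorization q := by
    rw [← Finsupp.add_apply, ← Nat.factorization_mul hG0 hB0]
    exact (hq.pow_dvd_iff_le_factorization (mul_ne_zero hG0 hB0)).mp hk
  refine (pow_dvd_pow q hk').trans ?_
  rw [pow_add]
  haveI := Fact.mk hq
  have hBq : q ^ (Nat.card B).factorization q ∣ Nat.card B := Nat.ordProj_dvd _ _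
  rcases eq_or_ne q p with rfl | hqp
  · rw [mul_comm]
    refine mul_dvd_mul (hBq.trans (card_dvd_of_le inf_le_left)) ?_
    rw [← card_of_max hT hmax]
    exact card_dvd_of_le hTA
  rcases eq_or_ne q 2 with rfl | hq2
  · obtain ⟨T2, hT2i, hUT2, hT2s⟩ :=
      H41.Shult.exists_inv_syl_ge C.hr C.hσ C.hcop hA C.invU hUA C.pU
    obtain ⟨P, hPi, hTP, hPs⟩ :=
      H41.Shult.exists_inv_syl_ge C.hr C.hσ C.hcop (H := ⊤) inv_top hT2i le_top hT2s.2.1
    have hUP : disp σ P = U := le_antisymm (disp_two_le C hPi hPs.2.1 (hUT2.trans hTP))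
      ((disp_U C).ge.trans (disp_mono (hUT2.trans hTP)))
    have hprod : ∀ x ∈ P, ∃ f ∈ P ⊓ F, ∃ a ∈ T2, x = f * a := by
      intro x hx
      have hd : σ x * x⁻¹ ∈ U := hUP ▸ subset_disp hx
      have hn : x ∈ normalizer (U : Set G) := by
        rw [← hUP]; exact le_normalizer_disp hx
      obtain ⟨c, d, hd', hc, rfl⟩ := exists_fixed_mul C.hr C.hσ C.hcop C.invU hn hd
      refine ⟨c, ⟨?_, hc⟩, d, hUT2 hd', rfl⟩
      simpa using mul_mem hx (inv_mem (hTP (hUT2 hd')))
    have hcard := card_mul_of_prod (inf_le_left : P ⊓ F ≤ P) hTP hprod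
    have hPF : (P ⊓ F) ⊓ T2 = T2 ⊓ F := by
      ext x; exact ⟨fun h => ⟨h.2, h.1.2⟩, fun h => ⟨⟨hTP h.1, h.2⟩, h.1⟩⟩
    rw [hPF, card_of_max hPs.2.1 fun R hR => hPs.card_le le_top hR] at hcard
    have hBd : 2 ^ (Nat.card B).factorization 2 ∣ Nat.card ↥(T2 ⊓ F) := by
      obtain ⟨R⟩ : Nonempty (Sylow 2 B) := inferInstance
      set R' := (R : Subgroup B).map B.subtype with hR'
      have hR'i : Inv σ R' := fun x hx => by
        have : σ x = x := (map_subtype_le _ hx).1
        rw [this]; exact hx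
      obtain ⟨PR, hPRi, hRPR, hPRs⟩ := H41.Shult.exists_inv_syl_ge C.hr C.hσ C.hcop hA hR'i
        ((map_subtype_le _).trans inf_le_right) (R.2.map _)
      obtain ⟨h, hh, hc⟩ := hT2s.2.2 PR hPRs.1 hPRs.2.1
      obtain ⟨c, hcA, hcf, hcc⟩ := H41.Shult.exists_fixed_conj C.hr C.hσ C.hcop hA hPRi hT2i
        (le_antisymm (hT2s.card_le hPRs.1 hPRs.2.1) (hPRs.card_le hT2s.1 hT2s.2.1)) hh hc
      have hle : R'.map (MulAut.conj c).toMonoidHom ≤ T2 ⊓ F := by
        rintro _ ⟨x, hx, rfl⟩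
        refine ⟨hcc x (hRPR hx), ?_⟩
        show σ (c * x * c⁻¹) = c * x * c⁻¹
        rw [map_mul, map_mul, map_inv, hcf, (map_subtype_le _ hx).1]
      have hd := card_dvd_of_le hle
      rwa [card_map_of_injective (MulAut.conj c).injective,
        card_map_of_injective B.subtype_injective, R.card_eq_multiplicity] at hd
    refine (mul_dvd_mul (dvd_refl _) hBd).trans ?_
    rw [hcard]
    exact mul_dvd_mul (card_dvd_of_le inf_le_right) (card_dvd_of_le hT2s.1)
  · refine mul_dvd_mul ?_ (hBq.trans (card_dvd_of_le inf_le_right))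
    obtain ⟨P, hP⟩ := H12.RComp.exists_inv_sylow (α := σ) (r := r) ⟨C.hσ, C.hcop⟩ q
    rw [← P.card_eq_multiplicity]
    exact card_dvd_of_le fun x hx => C.odd_fixed q hq hq2 hqp P P.2 hP x hx

end H12.Shult
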