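import Cfsg.Agent.H12.Shult.Core

/-!
Maximal invariant `p`-groups containing the Sylow subgroup `Q` of `C(U)` and normalised by `U`
(helper12, for S3041).
-/

set_option autoImplicit false
set_option linter.all false

open Subgroup
open H85.Shult
open scoped Pointwise commutatorElement

namespace H12.Shult

variable {G : Type*} [Group G]

/-- `Q` is an invariant Sylow `p`-subgroup of `C(U)`. -/
structure QSyl (σ : MulAut G) (U : Subgroup G) (p : ℕ) (Q : Subgroup G) : Prop where
  inv : Inv σ Q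
  pg : IsPGroup p Q
  le : Q ≤ centralizer (U : Set G)
  max : ∀ R : Subgroup G, IsPGroup p R → R ≤ centralizer (U : Set G) → Q ≤ R → R ≤ Q

/-- An invariant `p`-group normalised by `U` and containing `Q`. -/
structure Good (σ : MulAut G) (U : Subgroup G) (p : ℕ) (Q P : Subgroup G) : Prop where
  inv : Inv σ P
  pg : IsPGroup p P
  norm : U ≤ normalizer (P : Set G)
  le : Q ≤ P

/-- Two members lie in a common maximal good subgroup. -/
def Link (σ : MulAut G) (U : Subgroup G) (p : ℕ) (Q A B : Subgroup G) : Prop :=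
  ∃ P, Maximal (Good σ U p Q) P ∧ A ≤ P ∧ B ≤ P

variable [Finite G] {σ : MulAut G} {r m p : ℕ} {S U Z : Subgroup G}

theorem QSyl.good {Q : Subgroup G} (hQ : QSyl σ U p Q) : Good σ U p Q Q :=
  ⟨hQ.inv, hQ.pg,
    (le_centralizer_iff.mp hQ.le).trans (centralizer_le_normalizer _), le_rfl⟩

variable (C : Cfg σ r m p S U Z)
include C

theorem exists_qSyl : ∃ Q, QSyl σ U p Q := by
  haveI := Fact.mk C.hp
  haveI := Fact.mk C.hr
  obtain ⟨P, hP⟩ := H12.RComp.exists_inv_sylow_le (α := σ) (r := r) ⟨C.hσ, C.hcop⟩ p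
    (centralizer (U : Set G)) (inv_centralizer C.invU)
  refine ⟨_, hP, P.2.map _, map_subtype_le _, fun R hR hRU hle => ?_⟩
  have h1 : R.subgroupOf (centralizer (U : Set G)) = (P : Subgroup _) :=
    P.3 (hR.of_equiv (subgroupOfEquivOfLe hRU).symm) fun x hx =>
      hle (mem_map_of_mem (centralizer (U : Set G)).subtype hx)
  intro x hx
  refine ⟨⟨x, hRU hx⟩, ?_, rfl⟩
  rw [← h1]; exact hx

theorem le_normalizer_core_of_centU {H : Subgroup G} (hH : Inv σ H) (hne : H ≠ ⊤) (hUH : U ≤ H)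
    (hC : centralizer (U : Set G) ≤ H) :
    centralizer (U : Set G) ≤ normalizer (core σ U p H : Set G) :=
  hC.trans (core_spec C hH hne hUH).2.1

variable {Q : Subgroup G} (hQ : QSyl σ U p Q)
include hQ

/-- A member normalised by `Q` gives a good subgroup. -/
theorem good_sup {Y : Subgroup G} (hY : Mem σ U p Y) (hn : Q ≤ normalizer (Y : Set G)) :
    Good σ U p Q (Y ⊔ Q) :=
  ⟨inv_sup hY.inv hQ.inv, hY.pg.to_sup_of_normal_left' hQ.pg hn,
    le_normalizer_sup hY.norm hQ.good.norm, le_sup_right⟩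

theorem exists_maximal_ge {P : Subgroup G} (h : Good σ U p Q P) :
    ∃ P', Maximal (Good σ U p Q) P' ∧ P ≤ P' := by
  obtain ⟨P', h1, h2⟩ := Finite.exists_le_maximal (p := Good σ U p Q) h
  exact ⟨P', h2, h1⟩

theorem good_le_commutator_sup {P : Subgroup G} (h : Good σ U p Q P) : P ≤ ⁅P, U⁆ ⊔ Q := by
  haveI := Fact.mk C.hp
  conv_lhs => rw [← H1.commutator_sup_centralizer_eq h.norm (coprime_U C h.pg)
    (Or.inl (isSolvable_U C))]
  exact sup_le_sup le_rfl (hQ.max _ (h.pg.to_le inf_le_left) inf_le_right (le_inf h.le hQ.le))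

theorem Q_le_cent {z : G} (hz : z ∈ Z) : Q ≤ centralizer ({z} : Set G) :=
  hQ.le.trans (centU_le_cent C hz)

theorem good_core_sup {H : Subgroup G} (hH : Inv σ H) (hne : H ≠ ⊤) (hUH : U ≤ H)
    (hQH : Q ≤ H) : Good σ U p Q (core σ U p H ⊔ Q) :=
  good_sup C hQ (core_spec C hH hne hUH).1 (hQH.trans (core_spec C hH hne hUH).2.1)

/-- Two maximal good subgroups with noncentral intersection are equal. -/
theorem eq_of_noncentral {Pa Pb : Subgroup G} (ha : Maximal (Good σ U p Q) Pa)
    (hb : Maximal (Good σ U p Q) Pb) (hD : ¬ Pa ⊓ Pb ≤ center G) : Pa = Pb := by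
  haveI := Fact.mk C.hp
  suffices key : ∀ n, ∀ Pa Pb : Subgroup G, Maximal (Good σ U p Q) Pa →
      Maximal (Good σ U p Q) Pb → ¬ Pa ⊓ Pb ≤ center G →
      Nat.card G - Nat.card ↥(Pa ⊓ Pb) = n → Pa = Pb from key _ Pa Pb ha hb hD rfl
  intro n
  induction n using Nat.strong_induction_on with
  | _ n ih =>
    intro Pa Pb ha hb hD hn
    by_contra hne
    set D := Pa ⊓ Pb with hDdef
    have hDp : IsPGroup p D := ha.prop.pg.to_le inf_le_left
    have hDi : Inv σ D := inv_inf ha.prop.inv hb.prop.inv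
    have hUD : U ≤ normalizer (D : Set G) :=
      (le_inf ha.prop.norm hb.prop.norm).trans inf_normalizer_le_normalizer_inf
    have hN : normalizer (D : Set G) ≠ ⊤ := fun h =>
      hD (central_of_normalizer_top C C.hp hDp hDi h)
    have hQN : Q ≤ normalizer (D : Set G) := (le_inf ha.prop.le hb.prop.le).trans le_normalizer
    obtain ⟨Pc, hPc, hle⟩ := exists_maximal_ge C hQ
      (good_core_sup C hQ (inv_normalizer hDi) hN hUD hQN)
    have claim : ∀ P : Subgroup G, Maximal (Good σ U p Q) P → D ≤ P → D ≠ P → P = Pc := by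
      intro P hP hDP hDne
      set R := P ⊓ normalizer (D : Set G) with hR
      have hDR : D < R := lt_inf_normalizer hP.prop.pg (lt_of_le_of_ne hDP hDne)
      have hRg : Good σ U p Q R :=
        ⟨inv_inf hP.prop.inv (inv_normalizer hDi), hP.prop.pg.to_le inf_le_left,
          (le_inf hP.prop.norm (hUD.trans le_normalizer)).trans inf_normalizer_le_normalizer_inf,
          le_inf hP.prop.le hQN⟩
      have hRm : ⁅R, U⁆ ≤ core σ U p (normalizer (D : Set G)) :=
        le_core (mem_commutator_U C hRg.inv hRg.pg hRg.norm)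
          ((H1.commutator_le_left_of_le_normalizer hRg.norm).trans inf_le_right)
      have hRc : R ≤ Pc := (good_le_commutator_sup C hQ hRg).trans
        ((sup_le_sup hRm le_rfl).trans hle)
      have hRle : R ≤ P ⊓ Pc := le_inf inf_le_left hRc
      have hlt : Nat.card D < Nat.card ↥(P ⊓ Pc) := by
        by_contra hge
        exact absurd (eq_of_le_of_card_ge (hDR.le.trans hRle) (not_lt.mp hge))
          (hDR.trans_le hRle).ne
      have hcard : Nat.card ↥(P ⊓ Pc) ≤ Nat.card G := card_le_card_group _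
      exact ih _ (by omega) P Pc hP hPc (fun hc => hD ((hDR.le.trans hRle).trans hc)) rfl
    have hDa : D ≠ Pa := fun h => hne (ha.eq_of_le hb.prop (h ▸ inf_le_right))
    have hDb : D ≠ Pb := fun h => hne (hb.eq_of_le ha.prop (h ▸ inf_le_left)).symm
    exact hne ((claim Pa ha inf_le_left hDa).trans (claim Pb hb inf_le_right hDb).symm)

theorem eq_of_common {Pa Pb Y : Subgroup G} (ha : Maximal (Good σ U p Q) Pa)
    (hb : Maximal (Good σ U p Q) Pb) (hY : Mem σ U p Y) (hY0 : Y ≠ ⊥) (h1 : Y ≤ Pa) (h2 : Y ≤ Pb) :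
    Pa = Pb :=
  eq_of_noncentral C hQ ha hb fun h => hY0 (hY.eq_bot_of_central ((le_inf h1 h2).trans h))

theorem link_trans {A B B' : Subgroup G} (hB : Mem σ U p B) (hB0 : B ≠ ⊥)
    (h1 : Link σ U p Q A B) (h2 : Link σ U p Q B B') : Link σ U p Q A B' := by
  obtain ⟨P, hP, hA, hB1⟩ := h1
  obtain ⟨P', hP', hB2, hB'⟩ := h2
  obtain rfl := eq_of_common C hQ hP hP' hB hB0 hB1 hB2
  exact ⟨P, hP, hA, hB'⟩

omit C hQ in
theorem link_symm {A B : Subgroup G} (h : Link σ U p Q A B) : Link σ U p Q B A := by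
  obtain ⟨P, hP, hA, hB⟩ := h
  exact ⟨P, hP, hB, hA⟩

end H12.Shult
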