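import Cfsg.Agent.H12.Shult.Maximal
import Cfsg.Agent.H12.Shult.Count

/-!
The centralisers of noncentral elements of `Z`: the cores lie in one maximal good subgroup
(helper12, for S3041).
-/

set_option autoImplicit false
set_option linter.all false

open Subgroup
open H85.Shult
open scoped Pointwise commutatorElement

namespace H12.Shult

variable {G : Type*} [Group G]

/-- The core of the centraliser of `x`. -/
abbrev cenCore (σ : MulAut G) (U : Subgroup G) (p : ℕ) (x : G) : Subgroup G :=
  core σ U p (centralizer ({x} : Set G))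

/-- `Z = Z₀ ∪ eZ₀ ∪ fZ₀ ∪ efZ₀` and the class of `e` is the coset `eZ₀`. -/
structure Single (σ : MulAut G) (U Z : Subgroup G) (p : ℕ) (Q : Subgroup G) (e f : G) : Prop where
  he : e ∈ Z
  hf : f ∈ Z
  e_nc : e ∉ center G
  f_nc : f ∉ center G
  ef_nc : e * f ∉ center G
  four : ∀ z ∈ Z, z ∈ center G ∨ z * e ∈ center G ∨ z * f ∈ center G ∨ z * (e * f) ∈ center G
  ne_bot : cenCore σ U p e ≠ ⊥
  single : ∀ x ∈ Z, x ∉ center G → cenCore σ U p x ≠ ⊥ →
    Link σ U p Q (cenCore σ U p x) (cenCore σ U p e) → x * e ∈ center G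

variable [Finite G] {σ : MulAut G} {r m p : ℕ} {S U Z : Subgroup G}

theorem pow_eq_one_of_coprime {c : G} {a b : ℕ} (ha : c ^ a = 1) (hb : c ^ b = 1)
    (h : a.Coprime b) : c = 1 :=
  orderOf_eq_one_iff.mp (Nat.dvd_one.mp (h ▸
    Nat.dvd_gcd (orderOf_dvd_of_pow_eq_one ha) (orderOf_dvd_of_pow_eq_one hb)))

/-- An element of odd order sending `e` to `e c`, with `c` an involution commuting with it,
centralises `e`. -/
theorem conj_eq_self_of_odd {t e c : G} (ht : Odd (orderOf t)) (hc : c * c = 1)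
    (htc : t * c * t⁻¹ = c) (h : t * e * t⁻¹ = e * c) : t * e * t⁻¹ = e := by
  have hn : ∀ n : ℕ, t ^ n * e * (t ^ n)⁻¹ = e * c ^ n := by
    intro n
    induction n with
    | zero => simp
    | succ n ih =>
      have hcn : t * c ^ n * t⁻¹ = c ^ n := by rw [← conj_pow, htc]
      calc t ^ (n + 1) * e * (t ^ (n + 1))⁻¹ = t * (t ^ n * e * (t ^ n)⁻¹) * t⁻¹ := by
            rw [pow_succ', mul_inv_rev]; group
        _ = (t * e * t⁻¹) * (t * c ^ n * t⁻¹) := by rw [ih]; group
        _ = e * c ^ (n + 1) := by rw [h, hcn, pow_succ', mul_assoc]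
  have h1 := hn (orderOf t)
  rw [pow_orderOf_eq_one] at h1
  have h2 : c ^ orderOf t = 1 := by simpa using h1
  have hc1 : c = 1 :=
    pow_eq_one_of_coprime h2 (show c ^ 2 = 1 by rw [pow_two, hc]) (Nat.coprime_two_right.mpr ht)
  rw [h, hc1, mul_one]

variable (C : Cfg σ r m p S U Z)
include C

theorem centralizer_eq_of_mul {x a : G} (ha : a ∈ Z) (h : x * a ∈ center G) :
    centralizer ({x} : Set G) = centralizer ({a} : Set G) := by
  have hx : x = x * a * a := by rw [mul_assoc, C.sqZ a ha, mul_one]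
  ext g
  rw [mem_centralizer_singleton_iff, mem_centralizer_singleton_iff]
  have hg := mem_center_iff.mp h g
  constructor
  · intro e1
    have : g * (x * a) * a = x * a * (g * a) := by rw [hg, mul_assoc]
    have e2 : g * x = x * a * (g * a) := by rw [← this, mul_assoc, ← hx]
    rw [e1] at e2
    calc g * a = (x * a)⁻¹ * (x * g) := by rw [e2]; group
      _ = a⁻¹ * g := by group
      _ = a * g := by rw [inv_eq_of_mul_eq_one_right (C.sqZ a ha)]
  · intro e1
    calc g * x = g * (x * a) * a := by rw [mul_assoc, ← hx]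
      _ = x * a * (g * a) := by rw [hg, mul_assoc]
      _ = x * a * a * g := by rw [e1]; group
      _ = x * g := by rw [← hx]

theorem cenCore_eq_of_mul {x a : G} (ha : a ∈ Z) (h : x * a ∈ center G) :
    cenCore σ U p x = cenCore σ U p a := by
  rw [cenCore, cenCore, centralizer_eq_of_mul C ha h]

theorem cenCore_spec {e : G} (he : e ∈ Z) (hnc : e ∉ center G) :
    Mem σ U p (cenCore σ U p e) ∧
      centralizer ({e} : Set G) ≤ normalizer (cenCore σ U p e : Set G) :=
  let h := core_spec C (inv_centralizer_fixed (C.fixZ he)) (cent_ne_top C hnc) (U_le_cent C he)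
  ⟨h.1, h.2.1⟩

variable {Q : Subgroup G} (hQ : QSyl σ U p Q)
include hQ

theorem good_cenCore {e : G} (he : e ∈ Z) (hnc : e ∉ center G) :
    Good σ U p Q (cenCore σ U p e ⊔ Q) :=
  good_sup C hQ (cenCore_spec C he hnc).1 ((Q_le_cent C hQ he).trans (cenCore_spec C he hnc).2)

variable (hcent : ∀ c : G, σ c = c → c ∈ normalizer (U : Set G) → (∀ z ∈ Z, c * z = z * c) →
  c ∈ centralizer (U : Set G))
include hcent

/-- There is no class consisting of one coset. -/
theorem not_single (hQc : Q ≤ center G) {e f : G} : ¬ Single σ U Z p Q e f := by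
  intro D
  haveI := Fact.mk C.hp
  haveI := Fact.mk C.hr
  haveI : Fact (Nat.Prime 2) := ⟨Nat.prime_two⟩
  set E := cenCore σ U p e with hE
  obtain ⟨hEm, hEn⟩ := cenCore_spec C D.he D.e_nc
  obtain ⟨P, hP, hle⟩ := exists_maximal_ge C hQ (good_cenCore C hQ D.he D.e_nc)
  have hEP : E ≤ P := le_sup_left.trans hle
  -- `[P, U] ≤ E`
  have hPU : ⁅P, U⁆ ≤ E := by
    have hm := mem_commutator_U C hP.prop.inv hP.prop.pg hP.prop.norm
    have hPle : ⁅P, U⁆ ≤ P := H1.commutator_le_left_of_le_normalizer hP.prop.norm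
    have piece : ∀ x ∈ Z, x ∉ center G → ⁅⁅P, U⁆ ⊓ centralizer ({x} : Set G), U⁆ ≤ E := by
      intro x hx hxn
      set Y := ⁅⁅P, U⁆ ⊓ centralizer ({x} : Set G), U⁆ with hY
      rcases eq_or_ne Y ⊥ with h0 | h0
      · rw [h0]; exact bot_le
      have hn : U ≤ normalizer ((⁅P, U⁆ ⊓ centralizer ({x} : Set G) : Subgroup G) : Set G) :=
        (le_inf hm.norm ((U_le_cent C hx).trans le_normalizer)).trans
          inf_normalizer_le_normalizer_inf
      have hYm : Mem σ U p Y := mem_commutator_U C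
        (inv_inf hm.inv (inv_centralizer_fixed (C.fixZ hx))) (hm.pg.to_le inf_le_left) hn
      have hYx : Y ≤ cenCore σ U p x := le_core hYm
        ((H1.commutator_le_left_of_le_normalizer hn).trans inf_le_right)
      have hYP : Y ≤ P := (H1.commutator_le_left_of_le_normalizer hn).trans
        (inf_le_left.trans hPle)
      obtain ⟨P', hP', hle'⟩ := exists_maximal_ge C hQ (good_cenCore C hQ hx hxn)
      obtain rfl := eq_of_common C hQ hP hP' hYm h0 hYP (hYx.trans (le_sup_left.trans hle'))
      have hxe := D.single x hx hxn (fun h => h0 (le_bot_iff.mp (hYx.trans h.le)))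
        ⟨P, hP, le_sup_left.trans hle', hEP⟩
      rw [hE, ← cenCore_eq_of_mul C D.he hxe]; exact hYx
    exact mem_le_of_four C hm D.he D.hf (piece e D.he D.e_nc) (piece f D.hf D.f_nc)
      (piece (e * f) (mul_mem D.he D.hf) D.ef_nc)
  have hmaxE : ∀ Y, Mem σ U p Y → E ≤ Y → Y ≤ E := by
    intro Y hY hEY
    obtain ⟨P', hP', hle'⟩ := exists_maximal_ge C hQ
      (good_sup C hQ hY (hQc.trans (center_le_normalizer _)))
    obtain rfl := eq_of_common C hQ hP hP' hEm D.ne_bot hEP (hEY.trans (le_sup_left.trans hle'))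
    exact hY.comm.ge.trans ((commutator_mono (le_sup_left.trans hle') le_rfl).trans hPU)
  set H := normalizer (E : Set G) with hH
  have hHi : Inv σ H := inv_normalizer hEm.inv
  have hHne : H ≠ ⊤ := fun h =>
    D.ne_bot (hEm.eq_bot_of_central (central_of_normalizer_top C C.hp hEm.pg hEm.inv h))
  obtain ⟨hMm, -, hHdec⟩ := core_spec C hHi hHne hEm.norm
  have hME : core σ U p H ≤ E := hmaxE _ hMm (le_core hEm le_normalizer)
  -- an invariant Sylow subgroup of `H`
  obtain ⟨T0, hT0⟩ := H12.RComp.exists_inv_sylow_le (α := σ) (r := r) ⟨C.hσ, C.hcop⟩ p H hHi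
  set T := (T0 : Subgroup H).map H.subtype with hT
  have hTH : T ≤ H := map_subtype_le _
  have hTp : IsPGroup p T := T0.2.map _
  have hTmax : ∀ R : Subgroup G, IsPGroup p R → R ≤ H → T ≤ R → R ≤ T := by
    intro R hR hRH hle'
    have h1 : R.subgroupOf H = (T0 : Subgroup H) :=
      T0.3 (hR.of_equiv (subgroupOfEquivOfLe hRH).symm) fun x hx =>
        hle' (mem_map_of_mem H.subtype hx)
    intro x hx
    exact ⟨⟨x, hRH hx⟩, by rw [← h1]; exact hx, rfl⟩
  have hET : E ≤ T := by
    haveI : (E.subgroupOf H).Normal := normal_subgroupOf_of_le_normalizer le_rfl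
    have := IsPGroup.le_sylow_of_normal
      (hEm.pg.of_equiv (subgroupOfEquivOfLe (le_normalizer : E ≤ H)).symm) T0
    exact fun x hx => ⟨⟨x, le_normalizer hx⟩, this hx, rfl⟩
  -- `N(U)` and its core
  obtain ⟨K, hKN, hKp, hKi, hNK, hpow⟩ := C.small _ C.invNormU (normU_ne_top C)
  have hKU : K ≤ centralizer (U : Set G) := le_centralizer_of_disjoint (le_normalizer.trans hNK) hKN
    (disjoint_of_coprime_natCard (coprime_U C hKp).symm)
  have hKQ : K ≤ Q := le_sup_left.trans (hQ.max (K ⊔ Q)
    (hKp.to_sup_of_normal_left' hQ.pg (hQc.trans (center_le_normalizer _)))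
    (sup_le hKU hQ.le) le_sup_right)
  have hodd : ∀ t ∈ T, Odd (orderOf t) := fun t ht => by
    obtain ⟨k, hk⟩ := isPGroup_iff_orderOf_dvd_pow.mp hTp ⟨t, ht⟩
    rw [orderOf_mk] at hk
    exact Odd.of_dvd_nat ((C.hp.odd_of_ne_two C.hp2).pow) hk
  have hfixed : ∀ t ∈ T, t ∈ normalizer (U : Set G) → σ t = t := by
    intro t ht htN
    have h1 : σ t * t⁻¹ ∈ disp σ (normalizer (U : Set G)) := subset_disp htN
    obtain ⟨n, hn⟩ := hpow _ h1
    have hkT : σ t * t⁻¹ ∈ T := mul_mem (hT0 t ht) (inv_mem ht)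
    have hkK : σ t * t⁻¹ ∈ K := mem_of_pow_mem hTp (Nat.Coprime.pow_right n
      ((Nat.coprime_primes C.hp Nat.prime_two).mpr C.hp2)) hkT hn
    have hkc : σ t * t⁻¹ ∈ center G := hQc (hKQ hkK)
    set k := σ t * t⁻¹ with hk
    have hkf : σ k = k := C.center_fix k hkc
    have hst : σ t = k * t := by rw [hk]; group
    have hit : ∀ i : ℕ, (σ ^ i) t = k ^ i * t := by
      intro i
      induction i with
      | zero => simp
      | succ i ih =>
        rw [pow_succ', MulAut.mul_apply, ih, map_mul, map_pow, hkf, pow_succ, mul_assoc (k ^ i) k, ← hst]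
    have hr1 : k ^ r = 1 := by
      have := hit r
      rw [C.hσ, MulAut.one_apply] at this
      simpa using this.symm
    obtain ⟨a, ha⟩ := isPGroup_iff_pow_pow_eq_one.mp hKp ⟨k, hkK⟩
    have hk1 : k = 1 := pow_eq_one_of_coprime (congrArg Subtype.val ha : k ^ p ^ a = 1) hr1
      (Nat.Coprime.pow_left a ((Nat.coprime_primes C.hp C.hr).mpr C.hpr))
    rw [hst, hk1, one_mul]
  -- such elements centralise `Z`
  have hcU : ∀ t ∈ T, t ∈ normalizer (U : Set G) → t ∈ centralizer (U : Set G) := by
    intro t ht htN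
    have htf := hfixed t ht htN
    have htZ : ∀ z ∈ Z, t * z * t⁻¹ ∈ Z := fun z hz => C.mem_Z (conj_mem htN (C.Z_le_U hz))
      (by rw [map_mul, map_mul, map_inv, htf, C.fixZ hz])
    have hcen : ∀ z ∈ center G, t * z * t⁻¹ = z := fun z hz => by
      rw [mem_center_iff.mp hz t]; group
    have hncen : ∀ z : G, z ∉ center G → t * z * t⁻¹ ∉ center G := fun z hz h => hz (by
      have h1 := mem_center_iff.mp h t⁻¹
      have h2 : z = t * z * t⁻¹ := by
        calc z = t⁻¹ * (t * z * t⁻¹) * t := by group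
          _ = t * z * t⁻¹ * t⁻¹ * t := by rw [h1]
          _ = _ := by group
      rw [h2]; exact h)
    -- `e`
    set e' := t * e * t⁻¹ with he'
    have hEe' : E ≤ centralizer ({e'} : Set G) := by
      intro x hx
      rw [mem_centralizer_singleton_iff, he']
      have h1 : t⁻¹ * x * t ∈ E := inv_conj_mem (hTH ht) hx
      have h2 := mem_centralizer_singleton_iff.mp (core_le h1)
      calc x * (t * e * t⁻¹) = t * ((t⁻¹ * x * t) * e) * t⁻¹ := by group
        _ = t * (e * (t⁻¹ * x * t)) * t⁻¹ := by rw [h2]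
        _ = t * e * t⁻¹ * x := by group
    have hEE' : E ≤ cenCore σ U p e' := le_core hEm hEe'
    have he'c : e' * e ∈ center G := by
      obtain ⟨P', hP', hle'⟩ := exists_maximal_ge C hQ
        (good_cenCore C hQ (htZ e D.he) (hncen e D.e_nc))
      exact D.single _ (htZ e D.he) (hncen e D.e_nc)
        (fun h => D.ne_bot (le_bot_iff.mp (hEE'.trans h.le)))
        ⟨P', hP', le_sup_left.trans hle', hEE'.trans (le_sup_left.trans hle')⟩
    have hee : t * e * t⁻¹ = e := by
      refine conj_eq_self_of_odd (hodd t ht) (C.sqZ _ (mul_mem (htZ e D.he) D.he))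
        (hcen _ he'c) ?_
      show e' = e * (e' * e); rw [mem_center_iff.mp he'c e, mul_assoc e', C.sqZ e D.he, mul_one]
    have hsq := C.sqZ e D.he
    have hff : t * f * t⁻¹ = f := by
      set f' := t * f * t⁻¹ with hf'
      have hf'Z : f' ∈ Z := htZ f D.hf
      rcases D.four f' hf'Z with h | h | h | h
      · exact absurd h (hncen f D.f_nc)
      · exfalso
        refine hncen (f * e) ?_ ?_
        · intro h'
          exact D.ef_nc (by rwa [C.cenU e (C.Z_le_U D.he) f D.hf])
        · rwa [show t * (f * e) * t⁻¹ = (t * f * t⁻¹) * (t * e * t⁻¹) by group, hee]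
      · refine conj_eq_self_of_odd (hodd t ht) (C.sqZ _ (mul_mem hf'Z D.hf)) (hcen _ h) ?_
        show f' = f * (f' * f); rw [mem_center_iff.mp h f, mul_assoc f', C.sqZ f D.hf, mul_one]
      · set c := f' * (e * f) with hc
        have hef : e * f ∈ Z := mul_mem D.he D.hf
        have hf'e : f' = f * (c * e) := by
          rw [← mul_assoc f, mem_center_iff.mp h f, mul_assoc c f e, ← C.cenU e (C.Z_le_U D.he) f D.hf,
            hc, mul_assoc, C.sqZ _ hef, mul_one]
        refine conj_eq_self_of_odd (hodd t ht) (C.sqZ _ (mul_mem (mul_mem hf'Z hef) D.he)) ?_ hf'e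
        calc t * (c * e) * t⁻¹ = (t * c * t⁻¹) * (t * e * t⁻¹) := by group
          _ = c * e := by rw [hcen c h, hee]
    have hcomm : ∀ z ∈ Z, t * z * t⁻¹ = z := by
      intro z hz
      have hmul : ∀ a : G, t * a * t⁻¹ = a → z * a ∈ center G → t * z * t⁻¹ = z := by
        intro a ha hza
        calc t * z * t⁻¹ = (t * (z * a) * t⁻¹) * (t * a * t⁻¹)⁻¹ := by group
          _ = z := by rw [hcen _ hza, ha]; group
      rcases D.four z hz with h | h | h | h
      · exact hcen z h
      · exact hmul e hee h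
      · exact hmul f hff h
      · refine hmul (e * f) ?_ h
        calc t * (e * f) * t⁻¹ = (t * e * t⁻¹) * (t * f * t⁻¹) := by group
          _ = e * f := by rw [hee, hff]
    exact hcent t htf htN fun z hz => mul_inv_eq_iff_eq_mul.mp (hcomm z hz)
  -- `T = E (T ∩ C(U))`
  have hTdec : T ≤ E ⊔ (T ⊓ centralizer (U : Set G)) := by
    intro x hx
    have h1 : x ∈ E ⊔ (H ⊓ normalizer (U : Set G)) := sup_le_sup hME le_rfl (hHdec (hTH hx))
    rw [sup_comm] at h1
    obtain ⟨n, hn, a, ha, rfl⟩ := exists_mul_of_mem_sup'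
      (inf_le_left : H ⊓ normalizer (U : Set G) ≤ H) h1
    have hnT : n ∈ T := by simpa using mul_mem hx (inv_mem (hET ha))
    exact mul_mem (mem_sup_right (S := E) (Subgroup.mem_inf.mpr ⟨hnT, hcU n hnT hn.2⟩))
      (mem_sup_left ha)
  have hTe : T ≤ centralizer ({e} : Set G) :=
    hTdec.trans (sup_le core_le (inf_le_right.trans (centU_le_cent C D.he)))
  have hUT : U ≤ normalizer (T : Set G) := by
    have he' : T = E ⊔ (T ⊓ centralizer (U : Set G)) :=
      le_antisymm hTdec (sup_le hET inf_le_left)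
    rw [he']
    exact le_normalizer_sup hEm.norm
      ((le_centralizer_iff.mp inf_le_right).trans (centralizer_le_normalizer _))
  have hNT : normalizer (T : Set G) ≠ ⊤ := fun h => D.ne_bot
    (hEm.eq_bot_of_central (hET.trans (central_of_normalizer_top C C.hp hTp hT0 h)))
  obtain ⟨hMTm, hNTn, -⟩ := core_spec C (inv_normalizer (A := T) hT0) hNT hUT
  have hNTH : normalizer (T : Set G) ≤ H := by
    have hEM : E ≤ core σ U p (normalizer (T : Set G)) :=
      le_core hEm (hET.trans le_normalizer)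
    rwa [le_antisymm (hmaxE _ hMTm hEM) hEM] at hNTn
  have hsyl : ∀ R : Subgroup G, IsPGroup p R → Nat.card R ≤ Nat.card T := by
    intro R hR
    obtain ⟨P0, hP0⟩ := hTp.exists_le_sylow
    have hTP0 : (P0 : Subgroup G) = T := by
      by_contra hne
      have hlt := lt_inf_normalizer P0.2 (lt_of_le_of_ne hP0 (Ne.symm hne))
      exact hlt.not_ge (hTmax _ (P0.2.to_le inf_le_left) (inf_le_right.trans hNTH) hlt.le)
    obtain ⟨R0, hR0⟩ := hR.exists_le_sylow
    refine (card_le_of_le hR0).trans (le_of_eq ?_)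
    rw [← hTP0, R0.card_eq_multiplicity, P0.card_eq_multiplicity]
  have hprod := prod_of_sylow C (inv_centralizer_fixed (C.fixZ D.he)) (U_le_cent C D.he) hTp hTe
    hsyl
  have hcl : normalClosure ({e} : Set G) ≤ fixed σ := by
    rw [normalClosure, closure_le]
    intro x hx
    obtain ⟨a, ha, hax⟩ := Group.mem_conjugatesOfSet_iff.mp hx
    rw [Set.mem_singleton_iff.mp ha] at hax
    obtain ⟨g, rfl⟩ := isConj_iff.mp hax
    obtain ⟨u, hu, a', ha', rfl⟩ := hprod g
    have hu' : σ u = u := hu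
    have h2 : u * a' * e * (u * a')⁻¹ = u * e * u⁻¹ := by
      rw [mul_assoc u a' e, mem_centralizer_singleton_iff.mp ha']; group
    show σ (u * a' * e * (u * a')⁻¹) = u * a' * e * (u * a')⁻¹
    rw [h2, map_mul, map_mul, map_inv, hu', C.fixZ D.he]
  have hne : normalClosure ({e} : Set G) ≠ ⊤ := fun h => by
    obtain ⟨u, hu, hne⟩ := C.exists_moved
    exact hne (hcl (h ▸ mem_top u))
  exact D.e_nc (C.normal_le _ inferInstance (fun x hx => by
    have : σ x = x := hcl hx
    rw [this]; exact hx) hne (subset_normalClosure rfl))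

end H12.Shult
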