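import Cfsg.Agent.H12.Shult.Single
import Cfsg.Agent.H3.Shult.Blocks

/-!
The unique maximal invariant proper overgroup of `U` in the configuration of S3041 (helper12).
-/

set_option autoImplicit false
set_option linter.all false

open Subgroup
open H85.Shult
open scoped Pointwise commutatorElement

namespace H12.Shult

variable {G : Type*} [Group G] [Finite G] {σ : MulAut G} {r m p : ℕ} {S U Z : Subgroup G}
variable (C : Cfg σ r m p S U Z)
include C

/-- A four-group of `Z` meeting the centre trivially. -/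
theorem exists_four (h4 : 4 ≤ (Z ⊓ center G).relIndex Z) :
    ∃ e ∈ Z, ∃ f ∈ Z, e ∉ center G ∧ f ∉ center G ∧ e * f ∉ center G := by
  set Z0 := (Z ⊓ center G).subgroupOf Z with hZ0
  have hi : Z0.index = Nat.card (Z ⧸ Z0) := rfl
  haveI : Fintype (Z ⧸ Z0) := Fintype.ofFinite _
  classical
  have hcard : 4 ≤ Fintype.card (Z ⧸ Z0) := by
    rw [← Nat.card_eq_fintype_card]; exact h4
  obtain ⟨a, ha⟩ := Fintype.exists_ne_of_one_lt_card (by omega) (QuotientGroup.mk (1 : Z) : Z ⧸ Z0)
  have hle : ({QuotientGroup.mk (1 : Z), a} : Finset (Z ⧸ Z0)).card < Fintype.card (Z ⧸ Z0) :=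
    lt_of_le_of_lt Finset.card_le_two (by omega)
  obtain ⟨b, -, hb⟩ := Finset.exists_mem_notMem_of_card_lt_card
    (hle.trans_eq Finset.card_univ.symm)
  simp only [Finset.mem_insert, Finset.mem_singleton, not_or] at hb
  induction a using QuotientGroup.induction_on with
  | _ e =>
    induction b using QuotientGroup.induction_on with
    | _ f =>
      have key : ∀ x y : Z, (x : G)⁻¹ * y ∈ center G →
          (QuotientGroup.mk x : Z ⧸ Z0) = QuotientGroup.mk y := fun x y h =>
        (QuotientGroup.eq (s := Z0)).mpr ⟨mul_mem (Z.inv_mem x.2) y.2, h⟩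
      refine ⟨e, e.2, f, f.2, fun h => ha ?_, fun h => hb.1 ?_, fun h => hb.2 ?_⟩
      · exact (key 1 e (by simpa using h)).symm
      · exact (key 1 f (by simpa using h)).symm
      · refine (key e f ?_).symm
        rwa [inv_eq_of_mul_eq_one_right (C.sqZ e e.2)]

/-- A nontrivial member contains one whose centraliser in `Z` has index at most two. -/
theorem exists_thin : ∀ {Y : Subgroup G}, Mem σ U p Y → Y ≠ ⊥ →
    ∃ Y', Mem σ U p Y' ∧ Y' ≠ ⊥ ∧ Y' ≤ Y ∧ ∀ x ∈ Z, ∀ y ∈ Z,
      ¬ Y' ≤ centralizer ({x} : Set G) → ¬ Y' ≤ centralizer ({y} : Set G) →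
      Y' ≤ centralizer ({x * y} : Set G) := by
  intro Y
  induction h : Nat.card Y using Nat.strong_induction_on generalizing Y with
  | _ n ih =>
    intro hY h0
    by_cases hth : ∀ x ∈ Z, ∀ y ∈ Z, ¬ Y ≤ centralizer ({x} : Set G) →
        ¬ Y ≤ centralizer ({y} : Set G) → Y ≤ centralizer ({x * y} : Set G)
    · exact ⟨Y, hY, h0, le_rfl, hth⟩
    push_neg at hth
    obtain ⟨x, hx, y, hy, hnx, hny, hnxy⟩ := hth
    by_contra hcon
    have piece : ∀ z ∈ Z, ¬ Y ≤ centralizer ({z} : Set G) →
        ⁅Y ⊓ centralizer ({z} : Set G), U⁆ ≤ ⊥ := by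
      intro z hz hnz
      set W := Y ⊓ centralizer ({z} : Set G) with hW
      have hn : U ≤ normalizer (W : Set G) :=
        (le_inf hY.norm ((U_le_cent C hz).trans le_normalizer)).trans
          inf_normalizer_le_normalizer_inf
      have hWm : Mem σ U p ⁅W, U⁆ := mem_commutator_U C
        (inv_inf hY.inv (inv_centralizer_fixed (C.fixZ hz))) (hY.pg.to_le inf_le_left) hn
      have hWle : ⁅W, U⁆ ≤ Y :=
        (H1.commutator_le_left_of_le_normalizer hn).trans inf_le_left
      by_contra h1
      have hlt : Nat.card ↥⁅W, U⁆ < n := by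
        rw [← h]
        refine lt_of_le_of_ne (card_le_of_le hWle) fun he => hnz ?_
        rw [← eq_of_le_of_card_ge hWle he.ge]
        exact (H1.commutator_le_left_of_le_normalizer hn).trans inf_le_right
      obtain ⟨Y', h2, h3, h4, h5⟩ := ih _ hlt rfl hWm (fun he => h1 he.le)
      exact hcon ⟨Y', h2, h3, h4.trans hWle, h5⟩
    exact h0 (le_bot_iff.mp (mem_le_of_four C hY hx hy (piece x hx hnx) (piece y hy hny)
      (piece (x * y) (mul_mem hx hy) hnxy)))

/-- Every member lies in the join of the cores of centralisers. -/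
theorem mem_le_of_cenCore {Y X : Subgroup G} (hY : Mem σ U p Y)
    (h4 : 4 ≤ (Z ⊓ center G).relIndex Z)
    (hX : ∀ e ∈ Z, e ∉ center G → cenCore σ U p e ≤ X) : Y ≤ X := by
  obtain ⟨e, he, f, hf, hne, hnf, hnef⟩ := exists_four C h4
  have piece : ∀ z ∈ Z, z ∉ center G → ⁅Y ⊓ centralizer ({z} : Set G), U⁆ ≤ X := by
    intro z hz hnz
    have hn : U ≤ normalizer ((Y ⊓ centralizer ({z} : Set G) : Subgroup G) : Set G) :=
      (le_inf hY.norm ((U_le_cent C hz).trans le_normalizer)).trans
        inf_normalizer_le_normalizer_inf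
    exact (le_core (mem_commutator_U C (inv_inf hY.inv (inv_centralizer_fixed (C.fixZ hz)))
      (hY.pg.to_le inf_le_left) hn)
      ((H1.commutator_le_left_of_le_normalizer hn).trans inf_le_right)).trans (hX z hz hnz)
  exact mem_le_of_four C hY he hf (piece e he hne) (piece f hf hnf)
    (piece (e * f) (mul_mem he hf) hnef)

variable {Q : Subgroup G} (hQ : QSyl σ U p Q)
include hQ

variable (hcent : ∀ c : G, σ c = c → c ∈ normalizer (U : Set G) → (∀ z ∈ Z, c * z = z * c) →
  c ∈ centralizer (U : Set G))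
include hcent

/-- Two nontrivial cores are linked when `Q` is central. -/
theorem linked (hQc : Q ≤ center G) {e f : G} (he : e ∈ Z) (hne : e ∉ center G)
    (hf : f ∈ Z) (hnf : f ∉ center G) (hbe : cenCore σ U p e ≠ ⊥) (hbf : cenCore σ U p f ≠ ⊥) :
    Link σ U p Q (cenCore σ U p e) (cenCore σ U p f) := by
  by_contra hl
  have selfLink : ∀ x ∈ Z, x ∉ center G → ∀ A B : Subgroup G, A ≤ cenCore σ U p x →
      B ≤ cenCore σ U p x → Link σ U p Q A B := by
    intro x hx hnx A B hA hB
    obtain ⟨P, hP, hle⟩ := exists_maximal_ge C hQ (good_cenCore C hQ hx hnx)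
    exact ⟨P, hP, hA.trans (le_sup_left.trans hle), hB.trans (le_sup_left.trans hle)⟩
  have congrLink : ∀ x a : G, a ∈ Z → a ∉ center G → x * a ∈ center G →
      Link σ U p Q (cenCore σ U p x) (cenCore σ U p a) := fun x a ha hna h => by
    rw [cenCore_eq_of_mul C ha h]; exact selfLink a ha hna _ _ le_rfl le_rfl
  obtain ⟨Ye, hYe, hYe0, hYele, hthe⟩ := exists_thin C (cenCore_spec C he hne).1 hbe
  obtain ⟨Yf, hYf, hYf0, hYfle, hthf⟩ := exists_thin C (cenCore_spec C hf hnf).1 hbf
  have hcommon : ∀ x ∈ Z, Ye ≤ centralizer ({x} : Set G) → Yf ≤ centralizer ({x} : Set G) →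
      x ∈ center G := by
    intro x hx h1 h2
    by_contra hnx
    have l1 : Link σ U p Q (cenCore σ U p e) Ye := selfLink e he hne _ _ le_rfl hYele
    have l2 : Link σ U p Q Ye Yf := selfLink x hx hnx _ _ (le_core hYe h1) (le_core hYf h2)
    have l3 : Link σ U p Q Yf (cenCore σ U p f) := selfLink f hf hnf _ _ hYfle le_rfl
    exact hl (link_trans C hQ hYf hYf0 (link_trans C hQ hYe hYe0 l1 l2) l3)
  have hee : Ye ≤ centralizer ({e} : Set G) := hYele.trans core_le
  have hff : Yf ≤ centralizer ({f} : Set G) := hYfle.trans core_le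
  have hnef : ¬ Ye ≤ centralizer ({f} : Set G) := fun h => hnf (hcommon f hf h hff)
  have hnfe : ¬ Yf ≤ centralizer ({e} : Set G) := fun h => hne (hcommon e he hee h)
  have hmulcent : ∀ {Y : Subgroup G} {a b : G}, Y ≤ centralizer ({a} : Set G) →
      Y ≤ centralizer ({b} : Set G) → Y ≤ centralizer ({a * b} : Set G) := by
    intro Y a b ha hb y hy
    have h1 := mem_centralizer_singleton_iff.mp (ha hy)
    have h2 := mem_centralizer_singleton_iff.mp (hb hy)
    rw [mem_centralizer_singleton_iff]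
    calc y * (a * b) = (y * a) * b := by group
      _ = a * (y * b) := by rw [h1, mul_assoc]
      _ = a * b * y := by rw [h2, mul_assoc]
  have hstep : ∀ x ∈ Z, Ye ≤ centralizer ({x} : Set G) → x ∈ center G ∨ x * e ∈ center G := by
    intro x hx hxe
    by_cases hxf : Yf ≤ centralizer ({x} : Set G)
    · exact .inl (hcommon x hx hxe hxf)
    · exact .inr (hcommon _ (mul_mem hx he) (hmulcent hxe hee) (hthf x hx e he hxf hnfe))
  have hfour : ∀ z ∈ Z, z ∈ center G ∨ z * e ∈ center G ∨ z * f ∈ center G ∨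
      z * (e * f) ∈ center G := by
    intro z hz
    by_cases hzc : Ye ≤ centralizer ({z} : Set G)
    · rcases hstep z hz hzc with h | h
      · exact .inl h
      · exact .inr (.inl h)
    · rcases hstep _ (mul_mem hz hf) (hthe z hz f hf hzc hnef) with h | h
      · exact .inr (.inr (.inl h))
      · refine .inr (.inr (.inr ?_))
        rwa [C.cenU e (C.Z_le_U he) f hf, ← mul_assoc]
  have hef : e * f ∈ Z := mul_mem he hf
  have hnefc : e * f ∉ center G := fun h => hl (congrLink e f hf hnf h)
  have hfe : f * e = e * f := C.cenU f (C.Z_le_U hf) e he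
  by_cases hsing : ∀ x ∈ Z, x ∉ center G → cenCore σ U p x ≠ ⊥ →
      Link σ U p Q (cenCore σ U p x) (cenCore σ U p e) → x * e ∈ center G
  · exact not_single C hQ hcent hQc ⟨he, hf, hne, hnf, hnefc, hfour, hbe, hsing⟩
  push_neg at hsing
  obtain ⟨x, hx, hnx, hbx, hxl, hxe⟩ := hsing
  have hxef : x * (e * f) ∈ center G := by
    rcases hfour x hx with h | h | h | h
    · exact absurd h hnx
    · exact absurd h hxe
    · exfalso
      rw [cenCore_eq_of_mul C hf h] at hxl
      exact hl (link_symm hxl)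
    · exact h
  refine not_single C hQ hcent hQc (e := f) (f := e) ⟨hf, he, hnf, hne, hfe.symm ▸ hnefc,
    fun z hz => ?_, hbf, fun y hy hny hby hyl => ?_⟩
  · rw [hfe]
    rcases hfour z hz with h | h | h | h
    · exact .inl h
    · exact .inr (.inr (.inl h))
    · exact .inr (.inl h)
    · exact .inr (.inr (.inr h))
  · rcases hfour y hy with h | h | h | h
    · exact absurd h hny
    · exfalso
      rw [cenCore_eq_of_mul C he h] at hyl
      exact hl hyl
    · exact h
    · exfalso
      rw [cenCore_eq_of_mul C hef h] at hyl hby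
      rw [cenCore_eq_of_mul C hef hxef] at hxl
      exact hl (link_trans C hQ (cenCore_spec C hef hnefc).1 hby (link_symm hxl) hyl)

/-- All cores lie in one maximal good subgroup. -/
theorem exists_all :
    ∃ P, Maximal (Good σ U p Q) P ∧ ∀ e ∈ Z, e ∉ center G → cenCore σ U p e ≤ P := by
  by_cases h : ∃ e ∈ Z, e ∉ center G ∧ cenCore σ U p e ≠ ⊥
  · obtain ⟨e, he, hne, hbe⟩ := h
    obtain ⟨P, hP, hle⟩ := exists_maximal_ge C hQ (good_cenCore C hQ he hne)
    refine ⟨P, hP, fun f hf hnf => ?_⟩
    rcases eq_or_ne (cenCore σ U p f) ⊥ with h0 | h0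
    · rw [h0]; exact bot_le
    obtain ⟨P', hP', hle'⟩ := exists_maximal_ge C hQ (good_cenCore C hQ hf hnf)
    have hPP : P = P' := by
      by_cases hQc : Q ≤ center G
      · obtain ⟨P'', hP'', h1, h2⟩ := linked C hQ hcent hQc he hne hf hnf hbe h0
        exact (eq_of_common C hQ hP hP'' (cenCore_spec C he hne).1 hbe
          (le_sup_left.trans hle) h1).trans
          (eq_of_common C hQ hP' hP'' (cenCore_spec C hf hnf).1 h0 (le_sup_left.trans hle') h2).symm
      · exact eq_of_noncentral C hQ hP hP' fun hc =>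
          hQc ((le_inf hP.prop.le hP'.prop.le).trans hc)
    rw [hPP]; exact le_sup_left.trans hle'
  · push_neg at h
    obtain ⟨P, hP, -⟩ := exists_maximal_ge C hQ hQ.good
    exact ⟨P, hP, fun e he hne => by rw [h e he hne]; exact bot_le⟩

omit hQ in
/-- The maximal invariant overgroup of `U`. -/
theorem exists_top_of_cent (h4 : 4 ≤ (Z ⊓ center G).relIndex Z) : ∃ H₀, Top σ U Z H₀ := by
  haveI := Fact.mk C.hp
  obtain ⟨Q, hQ⟩ := exists_qSyl C
  obtain ⟨P, hP, hall⟩ := exists_all C hQ hcent
  set M := core σ U p (⊤ : Subgroup G) with hM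
  have hMP : M ≤ P := sSup_le fun Y hY => mem_le_of_cenCore C hY.1 h4 hall
  have hUM : U ≤ normalizer (M : Set G) := by
    intro u hu
    refine mem_normalizer_fintype fun x hx => ?_
    suffices hle : M.map (MulAut.conj u).toMonoidHom ≤ M from hle ⟨x, hx, rfl⟩
    rw [hM, core, sSup_eq_iSup, Subgroup.map_iSup]
    refine iSup_le fun Y => ?_
    rw [Subgroup.map_iSup]
    refine iSup_le fun hY => ?_
    refine le_trans ?_ (le_iSup₂_of_le Y hY le_rfl)
    exact (mem_normalizer_iff_map_conj_eq.mp (hY.1.norm hu)).le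
  have hMm : Mem σ U p M :=
    { inv := by
        rw [inv_iff_map_le, hM, core, sSup_eq_iSup, Subgroup.map_iSup]
        refine iSup_le fun Y => ?_
        rw [Subgroup.map_iSup]
        refine iSup_le fun hY => ?_
        exact (inv_iff_map_le.mp hY.1.inv).trans (le_iSup₂_of_le Y hY le_rfl)
      pg := hP.prop.pg.to_le hMP
      norm := hUM
      comm := le_antisymm (H1.commutator_le_left_of_le_normalizer hUM)
        (sSup_le fun Y hY => hY.1.comm.ge.trans (commutator_mono (le_core hY.1 hY.2) le_rfl)) }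
  have hMN : M ≠ ⊥ → normalizer (M : Set G) ≠ ⊤ := fun h h' =>
    h (hMm.eq_bot_of_central (central_of_normalizer_top C C.hp hMm.pg hMm.inv h'))
  -- `C(U)` normalises `M`
  have hCU : centralizer (U : Set G) ≤ normalizer (M : Set G) := by
    intro c hc
    set X := ⨆ e : {e : G // e ∈ Z ∧ e ∉ center G}, cenCore σ U p e.1 with hX
    have hXM : X ≤ M := iSup_le fun e => core_mono le_top
    have hMX : M ≤ X := sSup_le fun Y hY => mem_le_of_cenCore C hY.1 h4 fun e he hne =>
      le_iSup (fun e : {e : G // e ∈ Z ∧ e ∉ center G} => cenCore σ U p e.1) ⟨e, he, hne⟩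
    refine mem_normalizer_fintype fun x hx => ?_
    suffices hle : X.map (MulAut.conj c).toMonoidHom ≤ X from hXM (hle ⟨x, hMX hx, rfl⟩)
    rw [hX, Subgroup.map_iSup]
    refine iSup_le fun e => le_trans ?_
      (le_iSup (fun e : {e : G // e ∈ Z ∧ e ∉ center G} => cenCore σ U p e.1) e)
    exact (mem_normalizer_iff_map_conj_eq.mp
      ((cenCore_spec C e.2.1 e.2.2).2 (centU_le_cent C e.2.1 hc))).le
  -- `N(U)` normalises `M`
  have hNU : normalizer (U : Set G) ≤ normalizer (M : Set G) := by
    intro g hg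
    obtain ⟨K, hKN, hKp, hKi, hNK, hpow⟩ := C.small _ C.invNormU (normU_ne_top C)
    have hKU : K ≤ centralizer (U : Set G) := le_centralizer_of_disjoint
      (le_normalizer.trans hNK) hKN (disjoint_of_coprime_natCard (coprime_U C hKp).symm)
    have hd : disp σ (normalizer (U : Set G)) ≤ normalizer (M : Set G) :=
      (disp_le_sup C C.invNormU le_normalizer hKN hKi hNK hpow).trans
        (sup_le (hKU.trans hCU) hUM)
    obtain ⟨c, d, hdd, hc, rfl⟩ := exists_fixed_mul C.hr C.hσ C.hcop (inv_disp C.invNormU)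
      (le_normalizer_disp hg) (subset_disp hg)
    have hcN : c ∈ normalizer (U : Set G) := by
      simpa using mul_mem hg (inv_mem (disp_le C.invNormU hdd))
    refine mul_mem (mem_normalizer_fintype fun x hx => ?_) (hd hdd)
    suffices hle : M.map (MulAut.conj c).toMonoidHom ≤ M from hle ⟨x, hx, rfl⟩
    refine le_core (H := (⊤ : Subgroup G)) ⟨?_, hMm.pg.map _, ?_, ?_⟩ le_top
    · rintro _ ⟨y, hy, rfl⟩
      refine ⟨σ y, hMm.inv y hy, ?_⟩
      show c * σ y * c⁻¹ = σ (c * y * c⁻¹)
      rw [map_mul, map_mul, map_inv, hc]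
    · intro u hu
      refine mem_normalizer_fintype fun y hy => ?_
      obtain ⟨z, hz, rfl⟩ := hy
      refine ⟨(c⁻¹ * u * c) * z * (c⁻¹ * u * c)⁻¹, conj_mem (hUM (inv_conj_mem hcN hu)) hz, ?_⟩
      show c * ((c⁻¹ * u * c) * z * (c⁻¹ * u * c)⁻¹) * c⁻¹ = u * (c * z * c⁻¹) * u⁻¹
      group
    · have hUc : U.map (MulAut.conj c).toMonoidHom = U := mem_normalizer_iff_map_conj_eq.mp hcN
      conv_rhs => rw [← hMm.comm, map_commutator, hUc]
  classical
  refine ⟨if M = ⊥ then normalizer (U : Set G) else normalizer (M : Set G), ?_⟩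
  set H₀ := if M = ⊥ then normalizer (U : Set G) else normalizer (M : Set G) with hH₀
  have hmax : ∀ H : Subgroup G, Inv σ H → H ≠ ⊤ → U ≤ H → H ≤ H₀ := by
    intro H hH hne hUH
    refine (core_spec C hH hne hUH).2.2.trans ?_
    have hcM : core σ U p H ≤ M := core_mono le_top
    rw [hH₀]
    split_ifs with h0
    · exact sup_le (hcM.trans (h0.le.trans bot_le)) inf_le_right
    · exact sup_le (hcM.trans le_normalizer) (inf_le_right.trans hNU)
  refine ⟨?_, ?_, ?_, fun e he hne => hmax _ (inv_centralizer_fixed (C.fixZ he))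
    (cent_ne_top C hne) (U_le_cent C he), hmax⟩
  · rw [hH₀]; split_ifs
    · exact C.invNormU
    · exact inv_normalizer hMm.inv
  · rw [hH₀]; split_ifs with h0
    · exact normU_ne_top C
    · exact hMN h0
  · rw [hH₀]; split_ifs
    · exact le_rfl
    · exact hNU

/-- The maximal invariant overgroup of `U` in the minimal configuration. -/
theorem exists_top {G : Type*} [Group G] [Finite G] {σ : MulAut G} {r m p : ℕ}
    {S U Z : Subgroup G} (C : Cfg σ r m p S U Z) (h4 : 4 ≤ (Z ⊓ center G).relIndex Z) :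
    ∃ H₀, Top σ U Z H₀ :=
  exists_top_of_cent C (fun _ hc hcN hcZ => mem_centralizer_iff.mpr fun u hu =>
    (H3.Shult.cent C hc hcN hcZ u hu).symm) h4

end H12.Shult
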