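import Cfsg.Agent.H41.Shult.TwoCore
import Cfsg.Agent.H29.SEB.Main

/-!
Shult's fixed point theorem, several radicals: if a fixed element lies outside the maximal invariant
overgroup, a subgroup of odd order of the automorphisms of `U` induced by fixed elements is
transitive on the noncentral elements of `Z` modulo the centre (strongly embedded image of the
fixed elements of the overgroup; helper12, for S3041).
-/

set_option autoImplicit false
set_option linter.all false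

open Subgroup

namespace H12.Shult

open H41.Shult
open H85.Shult (Top fixed disp Inv)

variable {G : Type*} [Group G] [Finite G] {σ : MulAut G} {r m p : ℕ} {S U Z H₀ : Subgroup G}

/-- A fixed involution modulo the centre is conjugate into `Z` by a fixed element. -/
theorem exists_conj_into_Z (B : Two σ r m p S U Z H₀)
    (hI : ∀ x ∈ S, σ x = x → x * x ∈ center G → ∃ z ∈ Z, z⁻¹ * x ∈ center G)
    {x : G} (hx : σ x = x) (hx2 : x * x ∈ center G) (hxc : x ∉ center G) :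
    ∃ c : G, σ c = c ∧ (x ∈ H₀ → c ∈ H₀) ∧
      ∃ z ∈ Z, z ∉ center G ∧ z⁻¹ * (c * x * c⁻¹) ∈ center G := by
  haveI hN : (center G).Normal := inferInstance
  obtain ⟨s, o, ho, hxo⟩ := Nat.exists_eq_two_pow_mul_odd (orderOf_pos x).ne'
  obtain ⟨y, hy⟩ : ∃ y, y = x ^ o := ⟨_, rfl⟩
  have hy1 : y ^ 2 ^ s = 1 := by rw [hy, ← pow_mul, mul_comm, ← hxo, pow_orderOf_eq_one]
  have hσy : σ y = y := by rw [hy, map_pow, hx]
  have hyx : y⁻¹ * x ∈ center G := by
    obtain ⟨k, hk⟩ := ho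
    rw [hy, hk, pow_succ', mul_inv_rev, mul_assoc, inv_mul_cancel, mul_one, pow_mul, sq]
    exact inv_mem (pow_mem hx2 k)
  have hT : Inv σ (zpowers y) := by
    rintro _ ⟨n, rfl⟩
    exact ⟨n, show y ^ n = σ (y ^ n) by rw [map_zpow, hσy]⟩
  have hT2 : IsPGroup 2 (zpowers y) := by
    rintro ⟨_, n, rfl⟩
    refine ⟨s, Subtype.ext ?_⟩
    show (y ^ n) ^ 2 ^ s = 1
    rw [← zpow_natCast (y ^ n), ← zpow_mul, mul_comm, zpow_mul, zpow_natCast, hy1, one_zpow]
  have hmain : ∀ c : G, σ c = c → c * y * c⁻¹ ∈ S →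
      ∃ z ∈ Z, z ∉ center G ∧ z⁻¹ * (c * x * c⁻¹) ∈ center G := by
    intro c hσc hc
    obtain ⟨z, hz, hzy⟩ := hI _ hc (by rw [map_mul, map_mul, map_inv, hσc, hσy]) (by
      rw [show c * y * c⁻¹ * (c * y * c⁻¹) = c * (y * y) * c⁻¹ by group]
      refine hN.conj_mem _ ?_ c
      rw [hy, ← (Commute.refl x).mul_pow]
      exact pow_mem hx2 o)
    have h1 : z⁻¹ * (c * x * c⁻¹) ∈ center G := by
      rw [show z⁻¹ * (c * x * c⁻¹) = z⁻¹ * (c * y * c⁻¹) * (c * (y⁻¹ * x) * c⁻¹) by group]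
      exact mul_mem hzy (hN.conj_mem _ hyx c)
    refine ⟨z, hz, fun hzc => hxc ?_, h1⟩
    have h2 := hN.conj_mem _ (mul_mem hzc h1) c⁻¹
    simpa [mul_assoc] using h2
  by_cases hxM : x ∈ H₀
  · have hyM : y ∈ H₀ := by rw [hy]; exact pow_mem hxM o
    obtain ⟨c, hcM, hσc, hc⟩ := B.conj_into_S hT (zpowers_le.mpr hyM) hT2
    exact ⟨c, hσc, fun _ => hcM, hmain c hσc (hc y (mem_zpowers y))⟩
  · obtain ⟨c, hσc, hc⟩ := B.conj_into_S_top hT hT2
    exact ⟨c, hσc, fun h => absurd h hxM, hmain c hσc (hc y (mem_zpowers y))⟩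

/-- An odd order group of induced automorphisms is transitive on `Z` modulo the centre. -/
theorem exists_transitive_odd (B : Two σ r m p S U Z H₀)
    (hI : ∀ x ∈ S, σ x = x → x * x ∈ center G → ∃ z ∈ Z, z⁻¹ * x ∈ center G)
    (hconjZ : ∀ g e : G, σ g = g → e ∈ Z → e ∉ center G → g * e * g⁻¹ ∈ H₀ → g ∈ H₀)
    {h : G} (hh : σ h = h) (hhM : h ∉ H₀) :
    ∃ D : Subgroup (MulAut U), D ≤ act σ U ∧ Odd (Nat.card D) ∧
      ∀ a : U, (a : G) ∈ Z → (a : G) ∉ center G → ∀ b : U, (b : G) ∈ Z → (b : G) ∉ center G →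
        ∃ φ ∈ D, ((φ a : U) : G)⁻¹ * b ∈ center G := by
  classical
  haveI hN : (center G).Normal := inferInstance
  haveI : Fact (Nat.Prime p) := ⟨B.cfg.hp⟩
  set π := QuotientGroup.mk' (center G) with hπ
  have hπ1 : ∀ {x : G}, π x = 1 ↔ x ∈ center G := QuotientGroup.eq_one_iff _
  have hπeq : ∀ {x y : G}, π x = π y ↔ x⁻¹ * y ∈ center G := QuotientGroup.eq
  have hπM : ∀ {x : G}, π x ∈ H₀.map π ↔ x ∈ H₀ := fun {x} => ⟨fun ⟨y, hy, e⟩ => by
    have := mul_mem hy (B.center_le (hπeq.mp e))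
    rwa [mul_inv_cancel_left] at this, fun hx => ⟨x, hx, rfl⟩⟩
  set Q := (fixed σ).map π with hQ
  set Mb : Subgroup Q := (H₀.map π).subgroupOf Q with hMb
  have hmemQ : ∀ {x : G}, σ x = x → π x ∈ Q := fun hx => ⟨_, hx, rfl⟩
  have hord : ∀ z : G, z ∈ Z → z ∉ center G →
      ∃ t : Q, (t : G ⧸ center G) = π z ∧ orderOf t = 2 ∧ t ∈ Mb := by
    intro z hz hzc
    refine ⟨⟨π z, hmemQ (B.fixZ hz)⟩, rfl, orderOf_eq_prime ?_ ?_, hπM.mpr (B.hZM hz)⟩
    · refine Subtype.ext ?_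
      show (π z) ^ 2 = 1
      rw [← map_pow, sq, B.cfg.sqZ z hz, map_one]
    · exact fun e => hzc (hπ1.mp (congrArg Subtype.val e))
  obtain ⟨z₀, hz₀, hz₀c⟩ : ∃ z ∈ Z, z ∉ center G := by
    by_contra hcon
    push Not at hcon
    have h4 := B.h4
    rw [relIndex_eq_one.mpr (le_inf le_rfl hcon : Z ≤ Z ⊓ center G)] at h4
    omega
  have hSE : Cfsg.IsStronglyEmbedded Mb := by
    refine ⟨fun e => hhM (hπM.mp ?_), ?_, fun g hg => ?_⟩
    · have h1 : (⟨π h, hmemQ hh⟩ : Q) ∈ Mb := by rw [e]; trivial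
      exact h1
    · obtain ⟨t, -, ht2, htM⟩ := hord z₀ hz₀ hz₀c
      exact H65.even_card_of_mem htM ht2
    · by_contra hodd
      obtain ⟨t, htI, ht2⟩ := H65.exists_two_mem (Nat.not_odd_iff_even.1 hodd)
      obtain ⟨htM, u, huM, hu⟩ := mem_inf.mp htI
      obtain ⟨g0, hg0, hgπ⟩ : ∃ g0, σ g0 = g0 ∧ π g0 = (g : G ⧸ center G) := g.2
      obtain ⟨x, hx, hxπ⟩ : ∃ x, σ x = x ∧ π x = (t : G ⧸ center G) := t.2
      have hxM : x ∈ H₀ := hπM.mp (by rw [hxπ]; exact htM)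
      have ht : (t : G ⧸ center G) ^ 2 = 1 := by
        have := pow_orderOf_eq_one t
        rw [ht2] at this
        exact congrArg Subtype.val this
      have hx2 : x * x ∈ center G := hπ1.mp (by rw [map_mul, hxπ, ← sq, ht])
      have hxc : x ∉ center G := fun hc => by
        have h1 : t = 1 := Subtype.ext (by rw [← hxπ]; exact hπ1.mpr hc)
        rw [h1, orderOf_one] at ht2
        omega
      obtain ⟨c, hσc, hcM, z, hz, hzc, hzx⟩ := exists_conj_into_Z B hI hx hx2 hxc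
      have hu' : g0⁻¹ * x * g0 ∈ H₀ := hπM.mp (by
        rw [map_mul, map_mul, map_inv, hgπ, hxπ, ← hu]
        have e1 : (g : G ⧸ center G)⁻¹ * ((MulAut.conj g).toMonoidHom u : Q) * g = u := by
          simp [mul_assoc]
        rw [e1]
        exact huM)
      have hz' : (g0⁻¹ * c⁻¹) * z * (g0⁻¹ * c⁻¹)⁻¹ ∈ H₀ := by
        rw [show (g0⁻¹ * c⁻¹) * z * (g0⁻¹ * c⁻¹)⁻¹ =
          g0⁻¹ * x * g0 * ((g0⁻¹ * c⁻¹) * (z⁻¹ * (c * x * c⁻¹))⁻¹ * (g0⁻¹ * c⁻¹)⁻¹) by
            have hcen := mem_center_iff.mp hzx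
            obtain ⟨w, hw⟩ : ∃ w, w = z⁻¹ * (c * x * c⁻¹) := ⟨_, rfl⟩
            have ex : x = c⁻¹ * z * w * c := by rw [hw]; group
            rw [← hw, ex]; group]
        exact mul_mem hu' (B.center_le (hN.conj_mem _ (inv_mem hzx) _))
      have h1 := hconjZ _ z (by rw [map_mul, map_inv, map_inv, hg0, hσc]) hz hzc hz'
      refine hg (show (g : G ⧸ center G) ∈ H₀.map π from ?_)
      rw [← hgπ]
      refine hπM.mpr ?_
      have h2 := mul_mem h1 (hcM hxM)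
      rw [inv_mul_cancel_right] at h2
      simpa using inv_mem h2
  -- the odd two point stabiliser
  have C := H29SEB.se_ctx hSE
  let g1 : Q := ⟨π h, hmemQ hh⟩
  have hne : ((1 : Q) : Q ⧸ Mb) ≠ (g1 : Q ⧸ Mb) := by
    intro e
    rw [QuotientGroup.eq, inv_one, one_mul] at e
    exact hhM (hπM.mp e)
  haveI : Nontrivial (Q ⧸ Mb) := ⟨⟨_, _, hne⟩⟩
  obtain ⟨D0, hD1, hD2, hD3⟩ := C.core _ _ hne
  set Dg := D0.map Q.subtype with hDg
  have hDgM : Dg ≤ H₀.map π := by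
    rintro _ ⟨d, hd, rfl⟩
    have h1 : d ∈ Mb := H29SEB.smul_one_coset_iff.1 (hD1 d hd).1
    exact h1
  -- push to the automorphisms of `U`
  obtain ⟨K, hK⟩ := B.exists_core
  set Kb := K.map π with hKb
  have hnK : Dg ≤ normalizer (Kb : Set (G ⧸ center G)) := fun x hx => by
    obtain ⟨y, hy, rfl⟩ := hDgM hx
    exact le_normalizer_map π ⟨y, hK.norm hy, rfl⟩
  set N1 := (fixed σ ⊓ (Dg ⊔ Kb).comap π).subgroupOf (normalizer (U : Set G)) with hN1
  have hnoTwo : ∀ x ∈ Dg ⊔ Kb, ∀ s : ℕ, x ^ 2 ^ s = 1 → x = 1 := by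
    intro x hx s hs
    obtain ⟨d, hd, k, hk, rfl⟩ := exists_mul_of_mem_sup' hnK hx
    have hpow : ∀ j : ℕ, ∃ k' ∈ Kb, (d * k) ^ j = d ^ j * k' := by
      intro j
      induction j with
      | zero => exact ⟨1, one_mem _, by simp⟩
      | succ j ih =>
        obtain ⟨k', hk', e⟩ := ih
        refine ⟨d⁻¹ * k' * d * k, mul_mem (inv_conj_mem (hnK hd) hk') hk, ?_⟩
        rw [pow_succ, e, pow_succ]; group
    have hdm : d ^ Nat.card D0 = 1 := by
      have h1 : d ^ Nat.card Dg = 1 :=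
        orderOf_dvd_iff_pow_eq_one.mp (Subgroup.orderOf_dvd_natCard Dg hd)
      rwa [hDg, card_map_of_injective Subtype.coe_injective] at h1
    obtain ⟨k', hk', e⟩ := hpow (Nat.card D0)
    rw [hdm, one_mul] at e
    obtain ⟨n, hn⟩ := (hK.pg.map π) ⟨k', hk'⟩
    have hn' : (d * k) ^ (Nat.card D0 * p ^ n) = 1 := by
      rw [pow_mul, e]; exact congrArg Subtype.val hn
    have hodd : Odd (Nat.card D0 * p ^ n) :=
      hD2.mul (B.cfg.hp.odd_of_ne_two B.cfg.hp2).pow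
    exact orderOf_eq_one_iff.mp (Nat.eq_one_of_dvd_coprimes
      (Nat.Coprime.pow_left s (Nat.coprime_two_left.mpr hodd))
      (orderOf_dvd_of_pow_eq_one hs) (orderOf_dvd_of_pow_eq_one hn'))
  refine ⟨N1.map U.normalizerMonoidHom, Subgroup.map_mono fun n hn => hn.1, ?_, ?_⟩
  · rcases Nat.even_or_odd (Nat.card (N1.map U.normalizerMonoidHom)) with he | ho
    swap
    · exact ho
    exfalso
    obtain ⟨φ, ⟨n, hn, rfl⟩, hφ⟩ := H65.exists_two_mem he
    obtain ⟨s, o, ho, hno⟩ := Nat.exists_eq_two_pow_mul_odd (orderOf_pos n).ne'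
    have h2 : U.normalizerMonoidHom (n ^ o) = U.normalizerMonoidHom n := by
      obtain ⟨k, hk⟩ := ho
      rw [map_pow, hk, pow_succ, pow_mul, ← hφ, pow_orderOf_eq_one, one_pow, one_mul]
    have hn2 : n ^ o ∈ N1 := pow_mem hn o
    have h1 : ((n ^ o : normalizer (U : Set G)) : G) ∈ center G := by
      refine hπ1.mp (hnoTwo _ hn2.2 s ?_)
      rw [← map_pow, SubgroupClass.coe_pow, ← pow_mul, mul_comm, ← hno, ← SubgroupClass.coe_pow,
        pow_orderOf_eq_one, OneMemClass.coe_one, map_one]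
    have h3 : U.normalizerMonoidHom (n ^ o) = 1 := MulEquiv.ext fun u => Subtype.ext (by
      show ((n ^ o : normalizer (U : Set G)) : G) * u * ((n ^ o : normalizer (U : Set G)) : G)⁻¹ = u
      rw [← mem_center_iff.mp h1 u, mul_inv_cancel_right])
    rw [← h2, h3, orderOf_one] at hφ
    omega
  · intro a ha hac b hb hbc
    obtain ⟨t, htπ, ht2, htM⟩ := hord a ha hac
    obtain ⟨t', ht'π, ht'2, ht'M⟩ := hord b hb hbc
    have hall : ∀ w : Q, orderOf w = 2 → orderOf w = 2 := fun _ h => h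
    obtain ⟨d, hd, hdt⟩ := H29SEB.core_transitive C hne hD3 ht2
      (H29SEB.pt_eq_of_fix C hall ht2 (H29SEB.smul_one_coset_iff.2 htM)) ht'2
      (H29SEB.pt_eq_of_fix C hall ht'2 (H29SEB.smul_one_coset_iff.2 ht'M))
    obtain ⟨n, hσn, hnπ⟩ : ∃ n, σ n = n ∧ π n = (d : G ⧸ center G) := d.2
    have hdg : π n ∈ Dg := ⟨d, hd, hnπ.symm⟩
    have hnM : n ∈ H₀ := hπM.mp (hDgM hdg)
    have hc : (n * a * n⁻¹)⁻¹ * b ∈ center G := hπeq.mp (by
      rw [map_mul, map_mul, map_inv, hnπ, ← htπ, ← ht'π, ← hdt]; rfl)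
    obtain ⟨w, hw⟩ : ∃ w, w = (n * (a : G) * n⁻¹)⁻¹ * b := ⟨_, rfl⟩
    rw [← hw] at hc
    have hσw : σ w = w := by
      rw [hw]; simp only [map_mul, map_inv, hσn, B.fixZ ha, B.fixZ hb]
    have hnab : n * (a : G) * n⁻¹ * w = b := by rw [hw]; group
    have hw2 : w * w = 1 := by
      have h1 : n * (a : G) * n⁻¹ * (n * a * n⁻¹) = 1 := by
        rw [show n * (a : G) * n⁻¹ * (n * a * n⁻¹) = n * ((a : G) * a) * n⁻¹ by group,
          B.cfg.sqZ _ ha, mul_one, mul_inv_cancel]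
      calc w * w = n * (a : G) * n⁻¹ * (n * a * n⁻¹) * (w * w) := by rw [h1, one_mul]
        _ = n * (a : G) * n⁻¹ * w * (n * a * n⁻¹ * w) := by
          rw [mul_assoc, mul_assoc (n * (a : G) * n⁻¹) w, ← mul_assoc w (n * (a : G) * n⁻¹) w,
            ← mem_center_iff.mp hc (n * (a : G) * n⁻¹)]
          simp only [mul_assoc]
        _ = 1 := by rw [hnab, B.cfg.sqZ _ hb]
    have hwS : w ∈ S := by
      obtain ⟨c, -, hcS⟩ := B.conj_into_S_top (T := zpowers w) (by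
          rintro _ ⟨j, rfl⟩
          exact ⟨j, show w ^ j = σ (w ^ j) by rw [map_zpow, hσw]⟩) (by
          rintro ⟨_, j, rfl⟩
          refine ⟨1, Subtype.ext ?_⟩
          show (w ^ j) ^ 2 ^ 1 = 1
          rw [pow_one, sq, ← (Commute.refl w).mul_zpow, hw2, one_zpow])
      have := hcS w (mem_zpowers w)
      rwa [mem_center_iff.mp hc c, mul_inv_cancel_right] at this
    have hnS : n * (a : G) * n⁻¹ ∈ S := by
      have e : n * (a : G) * n⁻¹ = b * w⁻¹ := by rw [hw]; group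
      rw [e]
      exact mul_mem (B.hZS hb) (inv_mem hwS)
    obtain ⟨n', hσn', hn'N, hn'K, hconj⟩ := B.exists_normalising hK hnM hσn
    refine ⟨U.normalizerMonoidHom ⟨n', hn'N⟩, ⟨⟨n', hn'N⟩, ⟨hσn', ?_⟩, rfl⟩, ?_⟩
    · show π n' ∈ Dg ⊔ Kb
      rw [show n' = n' * n⁻¹ * n by group, map_mul]
      exact mul_mem (mem_sup_right ⟨_, hn'K, rfl⟩) (mem_sup_left hdg)
    · show (n' * (a : G) * n'⁻¹)⁻¹ * b ∈ center G
      rw [hconj _ a.2 (B.hZU (B.fixed_conj_Z hnM hσn ha hnS)), ← hw]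
      exact hc

end H12.Shult
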